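import Groth.Agent.AffLiftLib.Family

/-!
Unique filling of squares from an affine chart of the bottom category along whose open part
functions extend.
-/

set_option autoImplicit false
set_option backward.isDefEq.respectTransparency false
set_option backward.isDefEq.respectTransparency.types false
set_option linter.style.haveILetI false
set_option linter.unusedSectionVars false
universe u

open CategoryTheory CategoryTheory.Limits AlgebraicGeometry Opposite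

noncomputable section

namespace Groth.Agent.AffLift

open ASt

variable {S : Scheme.{u}} {𝒜 ℬ : AlgSt.Cat S}

/-- An affine chart of `ℬ` with its overlaps, along whose part in `𝒜` functions extend. -/
structure Chart (j : 𝒜 ⥤ᵇ ℬ) where
  u0 : ℬ.obj
  u2 : ℬ.obj
  π₁ : u2 ⟶ u0
  π₂ : u2 ⟶ u0
  a0 : 𝒜.obj
  i0 : j.obj a0 ⟶ u0
  a2 : 𝒜.obj
  i2 : j.obj a2 ⟶ u2
  affine0 : IsAffine (ℬ.p.obj u0).left
  affine2 : IsAffine (ℬ.p.obj u2).left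
  a0_max : ∀ (a : 𝒜.obj) (φ : j.obj a ⟶ u0), ∃ g : a ⟶ a0, j.map g ≫ i0 = φ
  prod : ∀ (c : ℬ.obj) (r₁ r₂ : c ⟶ u0), ∃ v : c ⟶ u2, v ≫ π₁ = r₁ ∧ v ≫ π₂ = r₂
  ext0_inj : ∀ W : Over S, IsAffine W.left →
    Function.Injective fun g : ℬ.p.obj u0 ⟶ W => ℬ.p.map i0 ≫ g
  ext0_surj : ∀ (W : Over S), IsAffine W.left → ∀ (π : W ⟶ ℬ.p.obj u0) (g : ℬ.p.obj (j.obj a0) ⟶ W),
    g ≫ π = ℬ.p.map i0 → ∃ g', ℬ.p.map i0 ≫ g' = g
  inj2 : ∀ W : Over S, IsAffine W.left →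
    Function.Injective fun g : ℬ.p.obj u2 ⟶ W => ℬ.p.map i2 ≫ g
  cover : ∀ b : ℬ.obj, ∃ (c : ℬ.obj) (w : c ⟶ b), Nonempty (c ⟶ u0) ∧
    (∀ (W : Over S) (g : ℬ.p.obj c ⟶ W),
      (∀ (V : Over S) (v₁ v₂ : V ⟶ ℬ.p.obj c), v₁ ≫ ℬ.p.map w = v₂ ≫ ℬ.p.map w → v₁ ≫ g = v₂ ≫ g) →
      ∃ g' : ℬ.p.obj b ⟶ W, ℬ.p.map w ≫ g' = g) ∧
    ∀ {T : Over S} (t : T ⟶ ℬ.p.obj b),
      ∃ (T' : Over S) (q : T' ⟶ T) (l : T' ⟶ ℬ.p.obj c), Epi q ∧ q ≫ t = l ≫ ℬ.p.map w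
  closed : ∀ (a : 𝒜.obj) (c : ℬ.obj) (v : c ⟶ j.obj a),
    ∃ (a' : 𝒜.obj) (g : a' ⟶ a) (e : j.obj a' ⟶ c), IsIso (ℬ.p.map e) ∧ e ≫ v = j.map g

variable {𝒳 𝒴 : AlgSt.Cat S}
  [h𝒳 : FibCat.IsFibGrpd 𝒳.p] [h𝒴 : FibCat.IsFibGrpd 𝒴.p] [hℬ : FibCat.IsFibGrpd ℬ.p]
  {f : 𝒳 ⥤ᵇ 𝒴} {H : ∀ η : 𝒴.obj, Univ f η} {j : 𝒜 ⥤ᵇ ℬ} {sq : LiftSq.Sq j f}

theorem sec_ext {b b' : ℬ.obj} (u : b ⟶ b') {t t' : ℬ.p.obj b ⟶ Z H sq b}
    (ht : t ≫ str H sq b = 𝟙 _) (ht' : t' ≫ str H sq b = 𝟙 _)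
    (h : t ≫ zmap H sq u = t' ≫ zmap H sq u) : t = t' :=
  (isPullback_zmap H sq u).hom_ext h (ht.trans ht'.symm)

theorem zmap_comp {b b' b'' : ℬ.obj} (u : b ⟶ b') (v : b' ⟶ b'') :
    zmap H sq (u ≫ v) = zmap H sq u ≫ zmap H sq v := by
  rw [zmap, zmor_comp, Functor.map_comp]

theorem mpt_natural {a a' : 𝒜.obj} (g : a ⟶ a') :
    ℬ.p.map (j.map g) ≫ mpt H sq a' = mpt H sq a ≫ zmap H sq (j.map g) := by
  have h := congrArg (fun m => 𝒳.p.map m) (mhom_natural H sq g)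
  simp only [Functor.map_comp, map_w] at h
  simp only [mpt, Category.assoc, map_w, zmap, ← h]
  simp

theorem mpt_str (a : 𝒜.obj) : mpt H sq a ≫ str H sq (j.obj a) = 𝟙 _ := by
  rw [mpt, Category.assoc, mhom, liftHom_str, topθ, map_app]
  simp

/-- A compatible family is determined on the chart. -/
theorem fam_unique (C : Chart j) (s s' : ∀ b, ℬ.p.obj b ⟶ Z H sq b) (hs : IsFam H sq s)
    (hs' : IsFam H sq s') : s = s' := by
  haveI := C.affine0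
  haveI := isAffineHom_str H sq C.u0
  haveI : IsAffine (Z H sq C.u0).left := isAffine_of_isAffineHom (str H sq C.u0).left
  have h0 : s C.u0 = s' C.u0 := (C.ext0_inj _ inferInstance) (by
    change ℬ.p.map C.i0 ≫ s C.u0 = ℬ.p.map C.i0 ≫ s' C.u0
    rw [hs.nat, hs'.nat, hs.compat, hs'.compat])
  funext b
  obtain ⟨c, w, ⟨r⟩, -, hcov⟩ := C.cover b
  obtain ⟨T', q, l, hq, he⟩ := hcov (𝟙 (ℬ.p.obj b))
  have hc : s c = s' c := sec_ext r (hs.sec c) (hs'.sec c) (by rw [← hs.nat, ← hs'.nat, h0])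
  haveI := hq
  rw [← cancel_epi q]
  have e : ∀ x : ℬ.p.obj b ⟶ Z H sq b, q ≫ x = l ≫ ℬ.p.map w ≫ x := fun x => by
    rw [← Category.assoc, ← he, Category.comp_id]
  rw [e, e, hs.nat, hs'.nat, hc]

theorem fam_exists (C : Chart j) : ∃ s, IsFam H sq s := by
  haveI := C.affine0
  haveI := C.affine2
  haveI := isAffineHom_str H sq C.u0
  haveI := isAffineHom_str H sq C.u2
  haveI : IsAffine (Z H sq C.u0).left := isAffine_of_isAffineHom (str H sq C.u0).left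
  haveI : IsAffine (Z H sq C.u2).left := isAffine_of_isAffineHom (str H sq C.u2).left
  -- the section on the chart
  obtain ⟨s₀, hs₀⟩ := C.ext0_surj _ inferInstance (str H sq C.u0) (mpt H sq C.a0 ≫ zmap H sq C.i0)
    (by rw [Category.assoc, zmap_str, ← Category.assoc, mpt_str, Category.id_comp])
  replace hs₀ : ℬ.p.map C.i0 ≫ s₀ = mpt H sq C.a0 ≫ zmap H sq C.i0 := hs₀
  have hs₀' : s₀ ≫ str H sq C.u0 = 𝟙 _ := (C.ext0_inj _ C.affine0) (by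
    change ℬ.p.map C.i0 ≫ _ = ℬ.p.map C.i0 ≫ _
    rw [← Category.assoc, hs₀, Category.assoc, zmap_str, ← Category.assoc, mpt_str]
    simp)
  have hsa : ∀ (a : 𝒜.obj) (φ : j.obj a ⟶ C.u0), ℬ.p.map φ ≫ s₀ = mpt H sq a ≫ zmap H sq φ := by
    intro a φ
    obtain ⟨g, rfl⟩ := C.a0_max a φ
    rw [Functor.map_comp, Category.assoc, hs₀, zmap_comp, ← Category.assoc, mpt_natural,
      Category.assoc]
  -- pulled back sections
  have hpull : ∀ {c : ℬ.obj} (r : c ⟶ C.u0), ∃ t : ℬ.p.obj c ⟶ Z H sq c,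
      t ≫ str H sq c = 𝟙 _ ∧ t ≫ zmap H sq r = ℬ.p.map r ≫ s₀ := fun {c} r => by
    obtain ⟨t, h₁, h₂⟩ := (isPullback_zmap H sq r).exists_lift (ℬ.p.map r ≫ s₀) (𝟙 _)
      (by rw [Category.assoc, hs₀']; simp)
    exact ⟨t, h₂, h₁⟩
  have hpullu : ∀ {c : ℬ.obj} (r : c ⟶ C.u0) (t : ℬ.p.obj c ⟶ Z H sq c),
      t ≫ str H sq c = 𝟙 _ → t ≫ zmap H sq r = ℬ.p.map r ≫ s₀ →
      ∀ (r' : c ⟶ C.u0), t ≫ zmap H sq r' = ℬ.p.map r' ≫ s₀ := by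
    intro c r t ht₁ ht₂ r'
    obtain ⟨v, rfl, rfl⟩ := C.prod c r r'
    obtain ⟨t₁, a₁, b₁⟩ := hpull C.π₁
    obtain ⟨t₂, a₂, b₂⟩ := hpull C.π₂
    have key : ∀ (π : C.u2 ⟶ C.u0) (t₀ : ℬ.p.obj C.u2 ⟶ Z H sq C.u2), t₀ ≫ str H sq C.u2 = 𝟙 _ →
        t₀ ≫ zmap H sq π = ℬ.p.map π ≫ s₀ → ℬ.p.map C.i2 ≫ t₀ = mpt H sq C.a2 ≫ zmap H sq C.i2 := by
      intro π t₀ a₀ b₀
      refine (isPullback_zmap H sq π).hom_ext ?_ ?_
      · rw [Category.assoc, Category.assoc, b₀, ← zmap_comp, ← hsa, Functor.map_comp, Category.assoc]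
      · rw [Category.assoc, Category.assoc, a₀, zmap_str, ← Category.assoc (mpt H sq C.a2), mpt_str]
        simp
    have e : t₁ = t₂ := (C.inj2 _ inferInstance) ((key _ t₁ a₁ b₁).trans (key _ t₂ a₂ b₂).symm)
    have ht : t ≫ zmap H sq v = ℬ.p.map v ≫ t₁ := by
      refine (isPullback_zmap H sq C.π₁).hom_ext ?_ ?_
      · rw [Category.assoc, ← zmap_comp, ht₂, Functor.map_comp, Category.assoc, Category.assoc, b₁]
      · rw [Category.assoc, zmap_str, ← Category.assoc, ht₁, Category.assoc, a₁]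
        simp
    rw [zmap_comp, ← Category.assoc, ht, e, Category.assoc, b₂, Functor.map_comp, Category.assoc]
  -- two objects over the same one with maps to the chart
  have hagree : ∀ {c c' : ℬ.obj} (r : c ⟶ C.u0) (t : ℬ.p.obj c ⟶ Z H sq c), t ≫ str H sq c = 𝟙 _ →
      t ≫ zmap H sq r = ℬ.p.map r ≫ s₀ → ∀ (k : c' ⟶ c) (r' : c' ⟶ C.u0) (t' : ℬ.p.obj c' ⟶ Z H sq c'),
      t' ≫ str H sq c' = 𝟙 _ → t' ≫ zmap H sq r' = ℬ.p.map r' ≫ s₀ →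
      t' ≫ zmap H sq k = ℬ.p.map k ≫ t := by
    intro c c' r t ht₁ ht₂ k r' t' ht₁' ht₂'
    refine (isPullback_zmap H sq r).hom_ext ?_ ?_
    · rw [Category.assoc, ← zmap_comp, hpullu r' t' ht₁' ht₂' (k ≫ r), Functor.map_comp, Category.assoc,
        Category.assoc, ht₂]
    · rw [Category.assoc, zmap_str, ← Category.assoc, ht₁', Category.assoc, ht₁]
      simp
  -- sections everywhere
  have hloc : ∀ b : ℬ.obj, ∃ s : ℬ.p.obj b ⟶ Z H sq b, s ≫ str H sq b = 𝟙 _ ∧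
      ∀ {d : ℬ.obj} (k : d ⟶ b) (r : d ⟶ C.u0) (t : ℬ.p.obj d ⟶ Z H sq d),
        t ≫ str H sq d = 𝟙 _ → t ≫ zmap H sq r = ℬ.p.map r ≫ s₀ →
        ℬ.p.map k ≫ s = t ≫ zmap H sq k := by
    intro b
    obtain ⟨c, w, ⟨r⟩, hdesc, hcov⟩ := C.cover b
    obtain ⟨t, ht₁, ht₂⟩ := hpull r
    obtain ⟨s, hs⟩ := hdesc _ (t ≫ zmap H sq w) (fun V v₁ v₂ hv => by
      let d := pull c rfl v₁
      let k₁ : d ⟶ c := pullHom c rfl v₁
      let k₂ : d ⟶ c := facMap w (k₁ ≫ w) (eqToHom (pull_base c rfl v₁) ≫ v₂) (by simp [k₁, d, hv])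
      have hk₂ : k₂ ≫ w = k₁ ≫ w := facMap_comp _ _ _ _
      obtain ⟨td, hd₁, hd₂⟩ := hpull (k₁ ≫ r)
      have e₁ := hagree r t ht₁ ht₂ k₁ (k₁ ≫ r) td hd₁ hd₂
      have e₂ := hagree r t ht₁ ht₂ k₂ (k₁ ≫ r) td hd₁ hd₂
      have h : ℬ.p.map k₁ ≫ t ≫ zmap H sq w = ℬ.p.map k₂ ≫ t ≫ zmap H sq w := by
        rw [← reassoc_of% e₁, ← reassoc_of% e₂, ← zmap_comp, ← zmap_comp, hk₂]
      simp [k₁, k₂, d] at h
      exact (cancel_epi _).1 h)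
    have hsec : s ≫ str H sq b = 𝟙 _ := by
      obtain ⟨T', q, l, hq, he⟩ := hcov (𝟙 (ℬ.p.obj b))
      haveI := hq
      rw [← cancel_epi q, Category.comp_id]
      calc q ≫ s ≫ str H sq b = (q ≫ 𝟙 _) ≫ s ≫ str H sq b := by simp
        _ = l ≫ (ℬ.p.map w ≫ s) ≫ str H sq b := by rw [he]; simp
        _ = l ≫ ℬ.p.map w := by rw [hs, Category.assoc, zmap_str, reassoc_of% ht₁]
        _ = q := by rw [← he]; simp
    refine ⟨s, hsec, fun {d} k r' t' ht₁' ht₂' => ?_⟩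
    obtain ⟨T', q, l, hq, he⟩ := hcov (ℬ.p.map k)
    haveI := hq
    rw [← cancel_epi q]
    let d' := pull d rfl q
    let k₁ : d' ⟶ d := pullHom d rfl q
    let k₂ : d' ⟶ c := facMap w (k₁ ≫ k) (eqToHom (pull_base d rfl q) ≫ l) (by simp [k₁, d', he])
    have hk₂ : k₂ ≫ w = k₁ ≫ k := facMap_comp _ _ _ _
    obtain ⟨td, hd₁, hd₂⟩ := hpull (k₁ ≫ r')
    have e₁ := hagree r' t' ht₁' ht₂' k₁ (k₁ ≫ r') td hd₁ hd₂
    have e₂ := hagree r t ht₁ ht₂ k₂ (k₁ ≫ r') td hd₁ hd₂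
    have h : ℬ.p.map k₂ ≫ t ≫ zmap H sq w = ℬ.p.map k₁ ≫ t' ≫ zmap H sq k := by
      rw [← reassoc_of% e₁, ← reassoc_of% e₂, ← zmap_comp, ← zmap_comp, hk₂]
    simp [k₁, k₂, d'] at h
    rw [← cancel_epi (eqToHom (pull_base d rfl q))]
    rw [← Category.assoc q, he, Category.assoc, hs]
    simpa using h
  choose s hsec hsloc using hloc
  have hnat : ∀ {b b' : ℬ.obj} (u : b ⟶ b'), ℬ.p.map u ≫ s b' = s b ≫ zmap H sq u := by
    intro b b' u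
    obtain ⟨c, w, ⟨r⟩, -, hcov⟩ := C.cover b
    obtain ⟨t, ht₁, ht₂⟩ := hpull r
    obtain ⟨T', q, l, hq, he⟩ := hcov (𝟙 (ℬ.p.obj b))
    haveI := hq
    rw [← cancel_epi q, ← Category.comp_id q, he]
    have h₁ := hsloc b w r t ht₁ ht₂
    have h₂ := hsloc b' (w ≫ u) r t ht₁ ht₂
    rw [Functor.map_comp, Category.assoc, zmap_comp] at h₂
    simp only [Category.assoc]
    rw [h₂, reassoc_of% h₁]
  refine ⟨s, hsec, hnat, fun a => ?_⟩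
  obtain ⟨c, w, ⟨r⟩, -, hcov⟩ := C.cover (j.obj a)
  obtain ⟨T', q, l, hq, he⟩ := hcov (𝟙 (ℬ.p.obj (j.obj a)))
  haveI := hq
  rw [Category.comp_id] at he
  let v : pull (j.obj a) rfl q ⟶ j.obj a := pullHom (j.obj a) rfl q
  let v' : pull (j.obj a) rfl q ⟶ c :=
    facMap w v (eqToHom (pull_base (j.obj a) rfl q) ≫ l) (by simp [v, he])
  obtain ⟨a', g, e, hei, he'⟩ := C.closed a _ v
  obtain ⟨t, ht₁, ht₂⟩ := hpull (e ≫ v' ≫ r)
  have h := hsloc (j.obj a) (j.map g) (e ≫ v' ≫ r) t ht₁ ht₂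
  have ht : t = mpt H sq a' := sec_ext (e ≫ v' ≫ r) ht₁ (mpt_str a') (by rw [ht₂, hsa])
  rw [ht, ← mpt_natural, ← he', Functor.map_comp, Category.assoc, Category.assoc] at h
  haveI := hei
  have h' := (cancel_epi _).1 h
  simp [v] at h'
  rw [← cancel_epi q]
  exact (cancel_epi _).1 (by simpa using h')

theorem liftsUniquely (C : Chart j) (H : ∀ η : 𝒴.obj, Univ f η) : LiftSq.LiftsUniquely j f :=
  fun sq => uniquelyFills (H := H) (sq := sq) (fam_exists C) (fam_unique C)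

end Groth.Agent.AffLift
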