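import Groth.Prelude.Def_ThetaS
import Groth.Agent.ASt.Cls

/-!
Unique filling against the structure functor passes from the target to the source of a morphism
against which squares fill uniquely.
-/

set_option autoImplicit false
set_option backward.isDefEq.respectTransparency false
set_option backward.isDefEq.respectTransparency.types false
universe u

open CategoryTheory AlgebraicGeometry

noncomputable section

namespace Groth.Agent.AffLift

open ASt

variable {S : Scheme.{u}} {𝒜 ℬ 𝒳 𝒴 : AlgSt.Cat S}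

theorem self_obj (F : ℬ ⥤ᵇ FibCat.selfOver (Over S)) : F.toFunctor = ℬ.p :=
  (Functor.comp_id _).symm.trans F.w

theorem self_eq (F G : ℬ ⥤ᵇ FibCat.selfOver (Over S)) : F = G :=
  basedFunctor_ext ((self_obj F).trans (self_obj G).symm)

theorem self_hom_ext {F G : ℬ ⥤ᵇ FibCat.selfOver (Over S)} (α β : F ⟶ G) : α = β := by
  ext a
  exact (map_app F G α a).trans (map_app F G β a).symm

theorem liftsUniquely_toSelf {j : 𝒜 ⥤ᵇ ℬ} (f : 𝒳 ⥤ᵇ 𝒴) (hf : LiftSq.LiftsUniquely j f)
    (hY : LiftSq.LiftsUniquely j (FibCat.toSelf 𝒴)) : LiftSq.LiftsUniquely j (FibCat.toSelf 𝒳) := by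
  intro sq
  let sqY : LiftSq.Sq j (FibCat.toSelf 𝒴) :=
    ⟨BasedFunctor.comp sq.top f, sq.bot, eqToIso (self_eq _ _)⟩
  let liftY : ∀ (d : sq.Lift), sqY.Lift := fun d =>
    { fn := BasedFunctor.comp d.fn f
      isoTop :=
        { hom := BasedCategory.whiskerRight d.isoTop.hom f
          inv := BasedCategory.whiskerRight d.isoTop.inv f
          hom_inv_id := by
            ext a
            change f.map _ ≫ f.map _ = _
            rw [← Functor.map_comp]
            exact (congrArg f.map (congrArg (fun m => m.toNatTrans.app a) d.isoTop.hom_inv_id)).trans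
              (f.toFunctor.map_id _)
          inv_hom_id := by
            ext a
            change f.map _ ≫ f.map _ = _
            rw [← Functor.map_comp]
            exact (congrArg f.map (congrArg (fun m => m.toNatTrans.app a) d.isoTop.inv_hom_id)).trans
              (f.toFunctor.map_id _) }
      isoBot := eqToIso (self_eq _ _)
      w := self_hom_ext _ _ }
  refine ⟨?_, fun d₁ d₂ => ?_⟩
  · obtain ⟨d⟩ := (hY sqY).1
    obtain ⟨e⟩ := (hf ⟨sq.top, d.fn, d.isoTop⟩).1
    exact ⟨⟨e.fn, e.isoTop, eqToIso (self_eq _ _), self_hom_ext _ _⟩⟩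
  · obtain ⟨θ⟩ := (hY sqY).2 (liftY d₁) (liftY d₂)
    obtain ⟨θ'⟩ := (hY sqY).2 (liftY d₂) (liftY d₁)
    obtain ⟨h₁⟩ := (hY sqY).2 (liftY d₁) (liftY d₁)
    obtain ⟨h₂⟩ := (hY sqY).2 (liftY d₂) (liftY d₂)
    let β : (liftY d₁).fn ≅ (liftY d₂).fn :=
      { hom := θ.default.hom
        inv := θ'.default.hom
        hom_inv_id := congrArg LiftSq.Sq.Lift.Hom.hom
          ((h₁.uniq (θ.default ≫ θ'.default)).trans (h₁.uniq (𝟙 _)).symm)
        inv_hom_id := congrArg LiftSq.Sq.Lift.Hom.hom
          ((h₂.uniq (θ'.default ≫ θ.default)).trans (h₂.uniq (𝟙 _)).symm) }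
    let sqF : LiftSq.Sq j f := ⟨sq.top, (liftY d₁).fn, (liftY d₁).isoTop⟩
    let e₁ : sqF.Lift := ⟨d₁.fn, d₁.isoTop, Iso.refl _, by
      ext a
      change 𝟙 _ ≫ f.map _ = f.map _
      exact Category.id_comp _⟩
    let e₂ : sqF.Lift := ⟨d₂.fn, d₂.isoTop, β, θ.default.w_top⟩
    obtain ⟨η⟩ := (hf sqF).2 e₁ e₂
    refine ⟨{ default := ⟨η.default.hom, η.default.w_top, self_hom_ext _ _⟩, uniq := fun ζ => ?_ }⟩
    have h : (⟨BasedCategory.whiskerRight ζ.hom f, by
        ext a
        change f.map _ ≫ f.map _ = f.map _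
        rw [← Functor.map_comp]
        exact congrArg f.map (congrArg (fun m => m.toNatTrans.app a) ζ.w_top), self_hom_ext _ _⟩ :
        liftY d₁ ⟶ liftY d₂) = θ.default := θ.uniq _
    apply LiftSq.Sq.Lift.hom_ext
    have := η.uniq ⟨ζ.hom, ζ.w_top, by
      ext a
      change 𝟙 _ ≫ f.map _ = _
      exact (Category.id_comp _).trans (congrArg (fun m => m.hom.toNatTrans.app a) h)⟩
    exact (congrArg LiftSq.Sq.Lift.Hom.hom this :)

end Groth.Agent.AffLift
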