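import Mathlib.AlgebraicGeometry.AffineScheme
import Mathlib.AlgebraicGeometry.Restrict

/-!
Maps to affine schemes extend over the common zero locus of a regular sequence of length two.
-/

set_option autoImplicit false
set_option backward.isDefEq.respectTransparency false
set_option backward.isDefEq.respectTransparency.types false
universe u

open CategoryTheory CategoryTheory.Limits AlgebraicGeometry Opposite TopologicalSpace

noncomputable section

namespace Groth.Agent.AffLift

variable {X : Scheme.{u}}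

/-- Restriction from the whole scheme. -/
abbrev res (D : X.Opens) : Γ(X, ⊤) →+* Γ(X, D) := (X.presheaf.map (homOfLE (le_top : D ≤ ⊤)).op).hom

theorem res_res {D E : X.Opens} (h : E ≤ D) (z : Γ(X, ⊤)) :
    (X.presheaf.map (homOfLE h).op) (res D z) = res E z := by
  rw [← CategoryTheory.ConcreteCategory.comp_apply, ← Functor.map_comp]
  rfl

theorem appTop_topIso (D : X.Opens) : D.ι.appTop ≫ D.topIso.hom = X.presheaf.map (homOfLE le_top).op := by
  rw [Scheme.Opens.ι_appTop, Scheme.Opens.topIso_hom, ← Functor.map_comp]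
  rfl

variable [IsAffine X]

theorem res_injective {s : Γ(X, ⊤)} (hs : IsRegular s) {D : X.Opens} (hD : X.basicOpen s ≤ D) :
    Function.Injective (res D) := by
  intro a b e
  have e' := congrArg (X.presheaf.map (homOfLE hD).op) e
  rw [res_res, res_res] at e'
  obtain ⟨⟨_, n, rfl⟩, hn⟩ := (IsLocalization.eq_iff_exists (Submonoid.powers s) Γ(X, X.basicOpen s)).mp e'
  exact (hs.pow n).left hn

theorem res_bijective {s t : Γ(X, ⊤)} (hs : IsRegular s) (ht : IsRegular t)
    (hst : ∀ c, s ∣ t * c → s ∣ c) :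
    Function.Bijective (res (X.basicOpen s ⊔ X.basicOpen t)) := by
  refine ⟨res_injective hs le_sup_left, fun g => ?_⟩
  have hpow : ∀ (m n : ℕ) (a b : Γ(X, ⊤)), t ^ m * a = s ^ n * b → ∃ c, a = s ^ n * c := by
    intro m n
    induction n with
    | zero => exact fun a b _ => ⟨a, by simp⟩
    | succ n ih =>
      intro a b e
      obtain ⟨c, rfl⟩ := ih a (s * b) (by rw [e]; ring)
      have e' : t ^ m * c = s * b := (hs.pow n).left (by
        change s ^ n * (t ^ m * c) = s ^ n * (s * b)
        linear_combination e)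
      have hm : ∀ (m : ℕ) (c : Γ(X, ⊤)), s ∣ t ^ m * c → s ∣ c := by
        intro m
        induction m with
        | zero => simp
        | succ m ih' => exact fun c h => ih' c (hst _ (by rwa [← mul_assoc, ← pow_succ']))
      obtain ⟨c', rfl⟩ := hm m c ⟨b, e'⟩
      exact ⟨c', by ring⟩
  let D := X.basicOpen s ⊔ X.basicOpen t
  let gs := X.presheaf.map (homOfLE (le_sup_left : _ ≤ D)).op g
  let gt := X.presheaf.map (homOfLE (le_sup_right : _ ≤ D)).op g
  obtain ⟨n, a, han⟩ := IsLocalization.Away.surj s gs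
  obtain ⟨m, b, hbm⟩ := IsLocalization.Away.surj t gt
  change gs * (res _ s) ^ n = res _ a at han
  change gt * (res _ t) ^ m = res _ b at hbm
  let E := X.basicOpen (s * t)
  have hEs : E ≤ X.basicOpen s := by simp [E, Scheme.basicOpen_mul]
  have hEt : E ≤ X.basicOpen t := by simp [E, Scheme.basicOpen_mul]
  have e : res E (t ^ m * a) = res E (s ^ n * b) := by
    have e₁ := congrArg (X.presheaf.map (homOfLE hEs).op) han
    have e₂ := congrArg (X.presheaf.map (homOfLE hEt).op) hbm
    have hg : X.presheaf.map (homOfLE hEs).op gs = X.presheaf.map (homOfLE hEt).op gt := by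
      simp only [gs, gt, ← CategoryTheory.ConcreteCategory.comp_apply, ← Functor.map_comp]
      rfl
    simp only [map_mul, map_pow, res_res] at e₁ e₂ ⊢
    rw [← e₁, ← e₂, hg]
    ring
  have e' := res_injective (hs.mul ht) (le_refl (X.basicOpen (s * t))) e
  obtain ⟨c, rfl⟩ := hpow m n a b e'
  have hb : t ^ m * c = b := (hs.pow n).left (by
    change s ^ n * (t ^ m * c) = s ^ n * b
    linear_combination e')
  subst hb
  refine ⟨c, TopCat.Sheaf.eq_of_locally_eq' X.sheaf (fun i : Bool => bif i then X.basicOpen s else X.basicOpen t)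
    D (fun i => homOfLE (by cases i; exacts [le_sup_right, le_sup_left])) ?_ _ _ ?_⟩
  · exact sup_le (le_iSup (fun i : Bool => bif i then X.basicOpen s else X.basicOpen t) true)
      (le_iSup (fun i : Bool => bif i then X.basicOpen s else X.basicOpen t) false)
  rintro (_ | _)
  · refine (res_res (le_sup_right : X.basicOpen t ≤ D) c).trans ?_
    refine ((IsLocalization.Away.algebraMap_isUnit (S := Γ(X, X.basicOpen t)) t).pow m).mul_right_cancel ?_
    rw [RingHom.algebraMap_toAlgebra]
    change res _ c * res _ t ^ m = gt * res _ t ^ m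
    rw [hbm, map_mul, map_pow, mul_comm]
  · refine (res_res (le_sup_left : X.basicOpen s ≤ D) c).trans ?_
    refine ((IsLocalization.Away.algebraMap_isUnit (S := Γ(X, X.basicOpen s)) s).pow n).mul_right_cancel ?_
    rw [RingHom.algebraMap_toAlgebra]
    change res _ c * res _ s ^ n = gs * res _ s ^ n
    rw [han, map_mul, map_pow, mul_comm]

theorem ι_comp_injective {s : Γ(X, ⊤)} (hs : IsRegular s) {D : X.Opens} (hD : X.basicOpen s ≤ D)
    {W : Scheme.{u}} [IsAffine W] : Function.Injective fun g : X ⟶ W => D.ι ≫ g := by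
  intro g g' e
  refine ext_of_isAffine ?_
  have e' := congrArg (fun m : D.toScheme ⟶ W => m.appTop ≫ D.topIso.hom) e
  simp only [Scheme.Hom.comp_appTop, Category.assoc, appTop_topIso] at e'
  ext z
  exact res_injective hs hD (congrArg (fun m => m.hom z) e')

theorem ι_comp_bijective {s t : Γ(X, ⊤)} (hs : IsRegular s) (ht : IsRegular t)
    (hst : ∀ c, s ∣ t * c → s ∣ c) {W : Scheme.{u}} [IsAffine W] :
    Function.Bijective fun g : X ⟶ W => (X.basicOpen s ⊔ X.basicOpen t).ι ≫ g := by
  refine ⟨ι_comp_injective hs le_sup_left, fun g => ?_⟩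
  let D := X.basicOpen s ⊔ X.basicOpen t
  let e : Γ(X, ⊤) ≅ Γ(X, D) := (RingEquiv.ofBijective (res D) (res_bijective hs ht hst)).toCommRingCatIso
  have he : e.hom = X.presheaf.map (homOfLE le_top).op := rfl
  let φ : Γ(W, ⊤) ⟶ Γ(X, ⊤) := g.appTop ≫ D.topIso.hom ≫ e.inv
  obtain ⟨g', hg'⟩ : ∃ g' : X ⟶ W, g'.appTop = φ :=
    ⟨X.isoSpec.hom ≫ Spec.map φ ≫ W.isoSpec.inv, by
      rw [← cancel_epi (W.isoSpec.hom.appTop)]
      simp [Scheme.isoSpec]⟩
  refine ⟨g', ext_of_isAffine ?_⟩
  change (D.ι ≫ g').appTop = _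
  rw [Scheme.Hom.comp_appTop, hg', ← cancel_mono D.topIso.hom]
  simp only [φ, Category.assoc, appTop_topIso]
  rw [← he, e.inv_hom_id, Category.comp_id]

end Groth.Agent.AffLift
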