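import Groth.Agent.AffLiftLib.Fibre
import Groth.Prelude.Def_ThetaS

/-!
Dotted arrows of a square against a morphism with affine fibres are compatible families of sections
of the universal fibres.
-/

set_option autoImplicit false
set_option backward.isDefEq.respectTransparency false
set_option backward.isDefEq.respectTransparency.types false
set_option linter.style.haveILetI false
set_option linter.unusedSectionVars false
universe u

open CategoryTheory CategoryTheory.Limits AlgebraicGeometry Opposite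

noncomputable section

namespace Groth.Agent.AffLift

open ASt

variable {S : Scheme.{u}} {𝒳 𝒴 𝒜 ℬ : AlgSt.Cat S}
  [h𝒳 : FibCat.IsFibGrpd 𝒳.p] [h𝒴 : FibCat.IsFibGrpd 𝒴.p]
  {f : 𝒳 ⥤ᵇ 𝒴}

theorem faithful (H : ∀ η : 𝒴.obj, Univ f η) : f.toFunctor.Faithful := by
  refine ⟨fun {x x'} {α β} h => ?_⟩
  obtain ⟨A, hA, -⟩ := (H (f.obj x')).univ x' (𝟙 _)
  refine hom_ext A (map_inj_w f h) (((H (f.obj x')).univ x (f.map α)).unique ?_ ?_)
  · rw [Functor.map_comp, Category.assoc, hA, Category.comp_id]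
  · rw [Functor.map_comp, Category.assoc, hA, Category.comp_id, h]

variable (H : ∀ η : 𝒴.obj, Univ f η) {j : 𝒜 ⥤ᵇ ℬ} (sq : LiftSq.Sq j f)

/-- The base of the universal fibre over `b`. -/
abbrev Z (b : ℬ.obj) : Over S := 𝒳.p.obj (H (sq.bot.obj b)).ξ

/-- Its structure morphism. -/
def str (b : ℬ.obj) : Z H sq b ⟶ ℬ.p.obj b :=
  eqToHom (f.w_obj _).symm ≫ 𝒴.p.map (H (sq.bot.obj b)).ψ ≫ eqToHom (sq.bot.w_obj b)

theorem isAffineHom_str (b : ℬ.obj) : IsAffineHom (str H sq b).left := by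
  haveI := (H (sq.bot.obj b)).affine
  simp only [str, Over.comp_left]
  infer_instance

/-- The morphism to the universal object. -/
def liftHom (b : ℬ.obj) {z : 𝒳.obj} (θ : f.obj z ⟶ sq.bot.obj b) : z ⟶ (H (sq.bot.obj b)).ξ :=
  ((H (sq.bot.obj b)).univ z θ).exists.choose

theorem liftHom_spec (b : ℬ.obj) {z : 𝒳.obj} (θ : f.obj z ⟶ sq.bot.obj b) :
    f.map (liftHom H sq b θ) ≫ (H (sq.bot.obj b)).ψ = θ :=
  ((H (sq.bot.obj b)).univ z θ).exists.choose_spec

theorem hom_unique {b : ℬ.obj} {z : 𝒳.obj} {α β : z ⟶ (H (sq.bot.obj b)).ξ}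
    (h : f.map α ≫ (H (sq.bot.obj b)).ψ = f.map β ≫ (H (sq.bot.obj b)).ψ) : α = β :=
  ((H (sq.bot.obj b)).univ z _).unique h rfl

theorem liftHom_str (b : ℬ.obj) {z : 𝒳.obj} (θ : f.obj z ⟶ sq.bot.obj b) :
    𝒳.p.map (liftHom H sq b θ) ≫ str H sq b =
      eqToHom (f.w_obj z).symm ≫ 𝒴.p.map θ ≫ eqToHom (sq.bot.w_obj b) := by
  conv_rhs => rw [← liftHom_spec H sq b θ]
  simp [str, map_w]

/-- Functoriality of the universal objects. -/
def zmor {b b' : ℬ.obj} (u : b ⟶ b') : (H (sq.bot.obj b)).ξ ⟶ (H (sq.bot.obj b')).ξ :=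
  liftHom H sq b' ((H (sq.bot.obj b)).ψ ≫ sq.bot.map u)

/-- Functoriality of their bases. -/
abbrev zmap {b b' : ℬ.obj} (u : b ⟶ b') : Z H sq b ⟶ Z H sq b' := 𝒳.p.map (zmor H sq u)

theorem zmor_spec {b b' : ℬ.obj} (u : b ⟶ b') :
    f.map (zmor H sq u) ≫ (H (sq.bot.obj b')).ψ = (H (sq.bot.obj b)).ψ ≫ sq.bot.map u :=
  liftHom_spec H sq _ _

theorem zmor_comp {b b' b'' : ℬ.obj} (u : b ⟶ b') (v : b' ⟶ b'') :
    zmor H sq (u ≫ v) = zmor H sq u ≫ zmor H sq v :=
  hom_unique H sq (by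
    rw [zmor_spec, Functor.map_comp, Functor.map_comp, Category.assoc, zmor_spec, ← Category.assoc,
      ← Category.assoc, zmor_spec])

theorem zmap_str {b b' : ℬ.obj} (u : b ⟶ b') :
    zmap H sq u ≫ str H sq b' = str H sq b ≫ ℬ.p.map u := by
  rw [zmap, zmor, liftHom_str, Functor.map_comp, map_w]
  simp [str]

theorem isPullback_zmap {b b' : ℬ.obj} (u : b ⟶ b') :
    IsPullback (zmap H sq u) (str H sq b) (str H sq b') (ℬ.p.map u) := by
  refine IsPullback.mk' (zmap_str H sq u) (fun {V} l l' h₁ h₂ => ?_) fun {V} t k h => ?_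
  · let ξ := (H (sq.bot.obj b)).ξ
    let p₁ := pullHom ξ rfl l
    let p₂ := pullHom ξ rfl l'
    let χ : pull ξ rfl l ⟶ pull ξ rfl l' := facMap (p₂ ≫ zmor H sq u) (p₁ ≫ zmor H sq u)
      (eqToHom ((pull_base _ _ _).trans (pull_base _ _ _).symm))
      (by simp [p₁, p₂]; rw [h₁])
    have hχ : χ ≫ p₂ ≫ zmor H sq u = p₁ ≫ zmor H sq u := facMap_comp _ _ _ _
    have hχ' : 𝒳.p.map χ = eqToHom _ := map_facMap _ _ _ _
    have e : χ ≫ p₂ = p₁ := by
      refine hom_unique H sq (hom_ext (sq.bot.map u) ?_ ?_)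
      · have h₂' : l ≫ eqToHom (f.w_obj _).symm ≫ 𝒴.p.map (H (sq.bot.obj b)).ψ =
            l' ≫ eqToHom (f.w_obj _).symm ≫ 𝒴.p.map (H (sq.bot.obj b)).ψ := by
          rw [← cancel_mono (eqToHom (sq.bot.w_obj b))]
          simpa [str] using h₂
        simp [map_w, p₁, p₂, hχ', ξ, h₂']
      · rw [Category.assoc, Category.assoc, ← zmor_spec H sq u, ← Category.assoc, ← Category.assoc,
          ← Functor.map_comp, ← Functor.map_comp, Category.assoc, hχ]
    have := congrArg (fun m => 𝒳.p.map m) e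
    simp [p₁, p₂, hχ'] at this
    exact ((cancel_epi _).1 this.symm)
  · let ξ' := pull (H (sq.bot.obj b')).ξ rfl t
    let q := pullHom (H (sq.bot.obj b')).ξ rfl t
    let θ : f.obj ξ' ⟶ sq.bot.obj b := facMap (sq.bot.map u) (f.map q ≫ (H (sq.bot.obj b')).ψ)
      (eqToHom ((f.w_obj ξ').trans (pull_base _ _ _)) ≫ k ≫ eqToHom (sq.bot.w_obj b).symm)
      (by
        have h' : t ≫ eqToHom (f.w_obj _).symm ≫ 𝒴.p.map (H (sq.bot.obj b')).ψ =
            k ≫ ℬ.p.map u ≫ eqToHom (sq.bot.w_obj b').symm := by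
          rw [← cancel_mono (eqToHom (sq.bot.w_obj b'))]
          simpa [str] using h
        simp [map_w, q, ξ', h'])
    have hθ : θ ≫ sq.bot.map u = f.map q ≫ (H (sq.bot.obj b')).ψ := facMap_comp _ _ _ _
    refine ⟨eqToHom (pull_base _ _ _).symm ≫ 𝒳.p.map (liftHom H sq b θ), ?_, ?_⟩
    · have e : liftHom H sq b θ ≫ zmor H sq u = q := hom_unique H sq (by
        rw [Functor.map_comp, Category.assoc, zmor_spec, ← Category.assoc, liftHom_spec, hθ])
      rw [zmap, Category.assoc, ← Functor.map_comp, e]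
      simp [q]
    · rw [Category.assoc, liftHom_str]
      simp [θ, ξ']

/-- The identification of the top of the square as an object over the bottom. -/
def topθ (a : 𝒜.obj) : f.obj (sq.top.obj a) ⟶ sq.bot.obj (j.obj a) := sq.iso.inv.toNatTrans.app a

/-- The morphism to the universal object given by the top of the square. -/
def mhom (a : 𝒜.obj) : sq.top.obj a ⟶ (H (sq.bot.obj (j.obj a))).ξ :=
  liftHom H sq (j.obj a) (topθ sq a)

/-- The section given by the top of the square. -/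
def mpt (a : 𝒜.obj) : ℬ.p.obj (j.obj a) ⟶ Z H sq (j.obj a) :=
  eqToHom ((j.w_obj a).trans (sq.top.w_obj a).symm) ≫ 𝒳.p.map (mhom H sq a)

theorem mhom_natural {a a' : 𝒜.obj} (g : a ⟶ a') :
    sq.top.map g ≫ mhom H sq a' = mhom H sq a ≫ zmor H sq (j.map g) :=
  hom_unique H sq (by
    rw [Functor.map_comp, Functor.map_comp, Category.assoc, Category.assoc, zmor_spec, mhom,
      liftHom_spec, mhom, ← Category.assoc (f.map (liftHom H sq _ _)), liftHom_spec]
    exact sq.iso.inv.toNatTrans.naturality g)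

/-- A compatible family of sections. -/
structure IsFam (s : ∀ b, ℬ.p.obj b ⟶ Z H sq b) : Prop where
  sec : ∀ b, s b ≫ str H sq b = 𝟙 _
  nat : ∀ {b b'} (u : b ⟶ b'), ℬ.p.map u ≫ s b' = s b ≫ zmap H sq u
  compat : ∀ a, s (j.obj a) = mpt H sq a

variable {H sq}

/-- The vertical identification attached to a section. -/
def secθ (s : ∀ b, ℬ.p.obj b ⟶ Z H sq b) (b : ℬ.obj) :
    f.obj (pull (H (sq.bot.obj b)).ξ rfl (s b)) ⟶ sq.bot.obj b :=
  f.map (pullHom (H (sq.bot.obj b)).ξ rfl (s b)) ≫ (H (sq.bot.obj b)).ψ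

theorem map_secθ {s : ∀ b, ℬ.p.obj b ⟶ Z H sq b} (hs : IsFam H sq s) (b : ℬ.obj) :
    𝒴.p.map (secθ s b) =
      eqToHom ((f.w_obj _).trans ((pull_base _ _ _).trans (sq.bot.w_obj b).symm)) := by
  have h : s b ≫ eqToHom (f.w_obj _).symm ≫ 𝒴.p.map (H (sq.bot.obj b)).ψ =
      eqToHom (sq.bot.w_obj b).symm := by
    rw [← cancel_mono (eqToHom (sq.bot.w_obj b))]
    simpa [str] using hs.sec b
  simp [secθ, map_w, h]

/-- The chosen object over a section. -/
abbrev famObj (s : ∀ b, ℬ.p.obj b ⟶ Z H sq b) (b : ℬ.obj) : 𝒳.obj :=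
  pull (H (sq.bot.obj b)).ξ rfl (s b)

/-- The projection from the chosen object over a section. -/
abbrev famHom (s : ∀ b, ℬ.p.obj b ⟶ Z H sq b) (b : ℬ.obj) : famObj s b ⟶ (H (sq.bot.obj b)).ξ :=
  pullHom (H (sq.bot.obj b)).ξ rfl (s b)

/-- The chosen objects over sections are functorial. -/
def famMap {s : ∀ b, ℬ.p.obj b ⟶ Z H sq b} (hs : IsFam H sq s) {b b' : ℬ.obj} (u : b ⟶ b') :
    famObj s b ⟶ famObj s b' :=
  facMap (famHom s b') (famHom s b ≫ zmor H sq u)
    (eqToHom (pull_base _ _ _) ≫ ℬ.p.map u ≫ eqToHom (pull_base _ _ _).symm)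
    (by simp [hs.nat u, zmap])

theorem famMap_base {s : ∀ b, ℬ.p.obj b ⟶ Z H sq b} (hs : IsFam H sq s) {b b' : ℬ.obj} (u : b ⟶ b') :
    𝒳.p.map (famMap hs u) = eqToHom (pull_base _ _ _) ≫ ℬ.p.map u ≫ eqToHom (pull_base _ _ _).symm :=
  map_facMap _ _ _ _

@[reassoc]
theorem famMap_hom {s : ∀ b, ℬ.p.obj b ⟶ Z H sq b} (hs : IsFam H sq s) {b b' : ℬ.obj} (u : b ⟶ b') :
    famMap hs u ≫ famHom s b' = famHom s b ≫ zmor H sq u := facMap_comp _ _ _ _

/-- The functor of a compatible family of sections. -/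
def famFn {s : ∀ b, ℬ.p.obj b ⟶ Z H sq b} (hs : IsFam H sq s) : ℬ ⥤ᵇ 𝒳 where
  toFunctor :=
    { obj := fun b => famObj s b
      map := fun u => famMap hs u
      map_id := fun b => by
        have e : zmor H sq (𝟙 b) = 𝟙 _ := hom_unique H sq (by simp [zmor_spec])
        exact hom_ext (famHom s b) (by simp [famMap_base]) (by simp [famMap_hom, e])
      map_comp := fun {b b' b''} u v =>
        hom_ext (famHom s b'') (by simp [famMap_base])
          (by simp [zmor_comp, famMap_hom, famMap_hom_assoc]) }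
  w := CategoryTheory.Functor.ext (fun b => pull_base (H (sq.bot.obj b)).ξ rfl (s b))
    (fun b b' u => famMap_base hs u)

theorem famFn_map {s : ∀ b, ℬ.p.obj b ⟶ Z H sq b} (hs : IsFam H sq s) {b b' : ℬ.obj} (u : b ⟶ b') :
    (famFn hs).map u = famMap hs u := rfl

theorem exists_lift {s : ∀ b, ℬ.p.obj b ⟶ Z H sq b} (hs : IsFam H sq s) : sq.HasLift := by
  haveI := faithful H
  have hθ : ∀ b, IsIso (secθ s b) := fun b => isIso_of_vert _ (map_secθ hs b)
  let bot : sq.bot ≅ BasedFunctor.comp (famFn hs) f := Iso.symm <| BasedNatIso.mkNatIso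
    (F := BasedFunctor.comp (famFn hs) f) (G := sq.bot)
    (NatIso.ofComponents (fun b => @asIso _ _ _ _ (secθ s b) (hθ b)) fun {b b'} u => by
      change f.map (famMap hs u) ≫ f.map (famHom s b') ≫ _ = (f.map (famHom s b) ≫ _) ≫ sq.bot.map u
      rw [← Category.assoc, ← Functor.map_comp, famMap_hom, Functor.map_comp, Category.assoc,
        Category.assoc, zmor_spec])
    fun b => isHomLift_id_of_map _ ((BasedFunctor.comp (famFn hs) f).w_obj b) (map_secθ hs b)
  let τ : ∀ a, sq.top.obj a ⟶ (famFn hs).obj (j.obj a) := fun a =>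
    facMap (pullHom (H (sq.bot.obj (j.obj a))).ξ rfl (s (j.obj a))) (mhom H sq a)
      (eqToHom ((sq.top.w_obj a).trans ((j.w_obj a).symm.trans (pull_base (H (sq.bot.obj (j.obj a))).ξ rfl (s (j.obj a))).symm)))
      (by simp [hs.compat a, mpt])
  have hτ : ∀ a, τ a ≫ pullHom (H (sq.bot.obj (j.obj a))).ξ rfl (s (j.obj a)) = mhom H sq a :=
    fun a => facMap_comp _ _ _ _
  have hτ' : ∀ a, 𝒳.p.map (τ a) = eqToHom _ := fun a => map_facMap _ _ _ _
  have hτi : ∀ a, IsIso (τ a) := fun a => isIso_of_vert _ (hτ' a)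
  let top : BasedFunctor.comp j (famFn hs) ≅ sq.top := Iso.symm <| BasedNatIso.mkNatIso
    (F := sq.top) (G := BasedFunctor.comp j (famFn hs))
    (NatIso.ofComponents (fun a => @asIso _ _ _ _ (τ a) (hτi a)) fun {a a'} g => by
      refine hom_ext (pullHom (H (sq.bot.obj (j.obj a'))).ξ rfl (s (j.obj a'))) ?_ ?_
      · change 𝒳.p.map (sq.top.map g ≫ τ a') = 𝒳.p.map (τ a ≫ famMap hs (j.map g))
        simp [hτ', map_w, famMap_base]
      · change (sq.top.map g ≫ τ a') ≫ _ = (τ a ≫ famMap hs (j.map g)) ≫ famHom s (j.obj a')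
        rw [Category.assoc, Category.assoc, hτ, famMap_hom, ← Category.assoc, hτ, mhom_natural])
    fun a => isHomLift_id_of_map (τ a) (sq.top.w_obj a) (hτ' a)
  refine ⟨⟨famFn hs, top, bot, ?_⟩⟩
  ext a
  haveI := hθ (j.obj a)
  haveI := hτi a
  change inv (secθ s (j.obj a)) ≫ f.map (inv (τ a)) = sq.iso.hom.toNatTrans.app a
  have hinv : sq.iso.hom.toNatTrans.app a ≫ topθ sq a = 𝟙 _ :=
    congrArg (fun m => m.toNatTrans.app a) sq.iso.hom_inv_id
  have hinv' : topθ sq a ≫ sq.iso.hom.toNatTrans.app a = 𝟙 _ :=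
    congrArg (fun m => m.toNatTrans.app a) sq.iso.inv_hom_id
  have e : f.map (τ a) ≫ secθ s (j.obj a) = topθ sq a := by
    rw [secθ, ← Category.assoc, ← Functor.map_comp, hτ]
    exact liftHom_spec H sq _ _
  rw [Functor.map_inv, ← IsIso.inv_comp]
  refine IsIso.inv_eq_of_hom_inv_id ?_
  rw [e]
  exact hinv'

/-- The morphism to the universal object given by a dotted arrow. -/
def dhom (d : sq.Lift) (b : ℬ.obj) : d.fn.obj b ⟶ (H (sq.bot.obj b)).ξ :=
  liftHom H sq b (d.isoBot.inv.toNatTrans.app b)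

theorem dhom_natural (d : sq.Lift) {b b' : ℬ.obj} (u : b ⟶ b') :
    d.fn.map u ≫ dhom d b' = dhom (H := H) d b ≫ zmor H sq u :=
  hom_unique H sq (by
    rw [Functor.map_comp, Functor.map_comp, Category.assoc, Category.assoc, zmor_spec, dhom,
      liftHom_spec, dhom, ← Category.assoc (f.map (liftHom H sq _ _)), liftHom_spec]
    exact d.isoBot.inv.toNatTrans.naturality u)

theorem isFam_lift (d : sq.Lift) :
    IsFam H sq fun b => eqToHom (d.fn.w_obj b).symm ≫ 𝒳.p.map (dhom d b) where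
  sec b := by
    rw [Category.assoc, dhom, liftHom_str, map_app]
    simp
  nat {b b'} u := by
    rw [Category.assoc, zmap, ← Functor.map_comp, ← dhom_natural, Functor.map_comp, map_w]
    simp
  compat a := by
    let t := d.isoTop.hom.toNatTrans.app a
    have e : f.map t ≫ topθ sq a = d.isoBot.inv.toNatTrans.app (j.obj a) := by
      have h : d.isoBot.hom.toNatTrans.app (j.obj a) ≫ f.map t = sq.iso.hom.toNatTrans.app a :=
        congrArg (fun m => m.toNatTrans.app a) d.w
      have hi : d.isoBot.inv.toNatTrans.app (j.obj a) ≫ d.isoBot.hom.toNatTrans.app (j.obj a) = 𝟙 _ :=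
        congrArg (fun m => m.toNatTrans.app (j.obj a)) d.isoBot.inv_hom_id
      have hinv : sq.iso.hom.toNatTrans.app a ≫ topθ sq a = 𝟙 _ :=
        congrArg (fun m => m.toNatTrans.app a) sq.iso.hom_inv_id
      refine ((congrArg (· ≫ f.map t ≫ topθ sq a) hi).trans (Category.id_comp _)).symm.trans ?_
      refine (Category.assoc _ _ _).trans ?_
      refine (congrArg (_ ≫ ·) ((Category.assoc _ _ _).symm.trans ((congrArg (· ≫ _) h).trans hinv))).trans ?_
      exact Category.comp_id _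
    have e' : dhom (H := H) d (j.obj a) = t ≫ mhom H sq a := hom_unique H sq (by
      rw [dhom, liftHom_spec, Functor.map_comp, Category.assoc, mhom, liftHom_spec, e])
    change _ = mpt H sq a
    rw [e', Functor.map_comp, map_app]
    simp [mpt]

theorem uniqLift (hu : ∀ s s', IsFam H sq s → IsFam H sq s' → s = s') : sq.UniqLift := by
  haveI := faithful H
  intro d d'
  have hd : ∀ b, eqToHom ((d.fn.w_obj b).trans (d'.fn.w_obj b).symm) ≫ 𝒳.p.map (dhom (H := H) d' b) =
      𝒳.p.map (dhom (H := H) d b) := fun b => by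
    have := congrFun (hu _ _ (isFam_lift (H := H) d) (isFam_lift (H := H) d')) b
    rw [← cancel_epi (eqToHom (d.fn.w_obj b).symm)]
    simpa using this.symm
  let θ : ∀ b, d.fn.obj b ⟶ d'.fn.obj b := fun b => facMap (dhom d' b) (dhom d b) _ (hd b)
  have hθc : ∀ b, θ b ≫ dhom d' b = dhom (H := H) d b := fun b => facMap_comp _ _ _ _
  have hθm : ∀ b, 𝒳.p.map (θ b) = eqToHom _ := fun b => map_facMap _ _ _ _
  have hθb : ∀ b, f.map (θ b) = d.isoBot.inv.toNatTrans.app b ≫ d'.isoBot.hom.toNatTrans.app b := fun b => by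
    have h := liftHom_spec H sq b (d.isoBot.inv.toNatTrans.app b)
    rw [← dhom, ← hθc, Functor.map_comp, Category.assoc, dhom, liftHom_spec] at h
    have hi : d'.isoBot.inv.toNatTrans.app b ≫ d'.isoBot.hom.toNatTrans.app b = 𝟙 _ :=
      congrArg (fun m => m.toNatTrans.app b) d'.isoBot.inv_hom_id
    rw [← h, Category.assoc, hi]
    exact (Category.comp_id _).symm
  let T : d.fn ⟶ d'.fn :=
    { toNatTrans :=
        { app := θ
          naturality := fun b b' u => f.toFunctor.map_injective (by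
            rw [Functor.map_comp, Functor.map_comp, hθb, hθb]
            have h1 := d.isoBot.inv.toNatTrans.naturality u
            have h2 := d'.isoBot.hom.toNatTrans.naturality u
            exact ((Category.assoc _ _ _).symm.trans (congrArg (· ≫ _) h1)).trans
              ((Category.assoc _ _ _).trans ((congrArg (_ ≫ ·) h2).trans (Category.assoc _ _ _).symm))) }
      isHomLift' := fun b => isHomLift_id_of_map (θ b) (d.fn.w_obj b) (hθm b) }
  refine ⟨{ default := ⟨T, ?_, ?_⟩, uniq := fun θ' => ?_ }⟩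
  · ext a
    refine f.toFunctor.map_injective ?_
    change f.map (θ (j.obj a) ≫ d'.isoTop.hom.toNatTrans.app a) = f.map (d.isoTop.hom.toNatTrans.app a)
    have h : d.isoBot.hom.toNatTrans.app (j.obj a) ≫ f.map (d.isoTop.hom.toNatTrans.app a) =
        d'.isoBot.hom.toNatTrans.app (j.obj a) ≫ f.map (d'.isoTop.hom.toNatTrans.app a) :=
      (congrArg (fun m => m.toNatTrans.app a) d.w).trans (congrArg (fun m => m.toNatTrans.app a) d'.w).symm
    have hi : d.isoBot.inv.toNatTrans.app (j.obj a) ≫ d.isoBot.hom.toNatTrans.app (j.obj a) = 𝟙 _ :=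
      congrArg (fun m => m.toNatTrans.app (j.obj a)) d.isoBot.inv_hom_id
    rw [Functor.map_comp, hθb, Category.assoc]
    refine (congrArg (_ ≫ ·) h.symm).trans ?_
    rw [← Category.assoc, hi]
    exact Category.id_comp _
  · ext b
    change d.isoBot.hom.toNatTrans.app b ≫ f.map (θ b) = d'.isoBot.hom.toNatTrans.app b
    have hi : d.isoBot.hom.toNatTrans.app b ≫ d.isoBot.inv.toNatTrans.app b = 𝟙 _ :=
      congrArg (fun m => m.toNatTrans.app b) d.isoBot.hom_inv_id
    rw [hθb, ← Category.assoc, hi]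
    exact Category.id_comp _
  · ext b
    refine f.toFunctor.map_injective ?_
    change f.map (θ'.hom.toNatTrans.app b) = f.map (θ b)
    have h : d.isoBot.hom.toNatTrans.app b ≫ f.map (θ'.hom.toNatTrans.app b) =
        d'.isoBot.hom.toNatTrans.app b := congrArg (fun m => m.toNatTrans.app b) θ'.w_bot
    have hi : d.isoBot.inv.toNatTrans.app b ≫ d.isoBot.hom.toNatTrans.app b = 𝟙 _ :=
      congrArg (fun m => m.toNatTrans.app b) d.isoBot.inv_hom_id
    rw [hθb, ← h, ← Category.assoc, hi]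
    exact (Category.id_comp _).symm

theorem uniquelyFills (hex : ∃ s, IsFam H sq s) (hu : ∀ s s', IsFam H sq s → IsFam H sq s' → s = s') :
    sq.UniquelyFills := by
  obtain ⟨s, hs⟩ := hex
  exact ⟨exists_lift hs, uniqLift hu⟩

end Groth.Agent.AffLift
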