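import Groth.Agent.ASt.Rep

/-!
Fibres of morphisms with affine fibres: over every object of the target there is a universal object,
lying over an affine scheme over the base of that object.
-/

set_option autoImplicit false
set_option backward.isDefEq.respectTransparency false
set_option backward.isDefEq.respectTransparency.types false
set_option linter.style.haveILetI false
set_option linter.unusedSectionVars false
universe u

open CategoryTheory CategoryTheory.Limits AlgebraicGeometry Opposite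

noncomputable section

namespace Groth.Agent.AffLift

open ASt

variable {S : Scheme.{u}} {𝒳 𝒴 : AlgSt.Cat S}

/-- A universal object of the fibre of `f` over `η`, affine over the base of `η`. -/
structure Univ (f : 𝒳 ⥤ᵇ 𝒴) (η : 𝒴.obj) where
  ξ : 𝒳.obj
  ψ : f.obj ξ ⟶ η
  affine : IsAffineHom (𝒴.p.map ψ).left
  univ : ∀ (z : 𝒳.obj) (θ : f.obj z ⟶ η), ∃! α : z ⟶ ξ, f.map α ≫ ψ = θ

variable [h𝒳 : FibCat.IsFibGrpd 𝒳.p] [h𝒴 : FibCat.IsFibGrpd 𝒴.p] {f : 𝒳 ⥤ᵇ 𝒴}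

theorem exists_class (hf : AlgSt.RepByAlgSpWith (AlgSp.RepWith @IsAffineHom) f) {U : Over S}
    (y : FibCat.overCat U ⥤ᵇ 𝒴) :
    ∃ (V : Over S) (c₀ : ClType (FibCat.fp y f) V), IsAffineHom (fpHom c₀).left ∧
      ∀ (T : Over S), Function.Bijective fun g : T ⟶ V => clMap g c₀ := by
  obtain ⟨F, e, he, hP⟩ := hf U y
  obtain ⟨hs, -, hrep, hsnd⟩ := fibHas_of_rep e he hP
  obtain ⟨V, s, fst, hpb⟩ := hrep (𝟙 ((AlgSp.yon S).obj U))
  haveI : IsIso fst := hpb.isIso_fst_of_isIso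
  have haff : IsAffineHom s.left := hsnd (𝟙 _) fst s hpb
  let c₀ : ClType (FibCat.fp y f) V := fst.hom.app (op V) ⟨𝟙 V⟩
  have hfst : IsIso fst.hom := inferInstanceAs (IsIso ((sheafToPresheaf _ _).map fst))
  have hπ : fpHom c₀ = s := by
    have h := congrArg (fun m => m.hom.app (op V) ⟨𝟙 V⟩) hpb.w
    simp only [Category.comp_id] at h
    exact (congrArg ULift.down h).trans (Category.id_comp s)
  refine ⟨V, c₀, hπ ▸ haff, fun T => ?_⟩
  have hb : Function.Bijective (fst.hom.app (op T)) := (isIso_iff_bijective _).mp inferInstance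
  have he : (fun g : T ⟶ V => clMap g c₀) = fun g => fst.hom.app (op T) ⟨g⟩ := by
    funext g
    have h := NatTrans.naturality_apply fst.hom g.op (⟨𝟙 V⟩ : ULift (V ⟶ V))
    refine h.symm.trans ?_
    congr 1
  rw [he]
  exact hb.comp Equiv.ulift.symm.bijective

/-- The identification attached to an object over `η`. -/
def vert {η : 𝒴.obj} {z : 𝒳.obj} (θ : f.obj z ⟶ η) (k : 𝒳.p.obj z ⟶ 𝒴.p.obj η)
    (hk : 𝒴.p.map θ = eqToHom (f.w_obj z) ≫ k) : (objFun η rfl).obj (ov k) ⟶ f.obj z :=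
  facMap θ (pullHom η rfl k) (eqToHom ((pull_base η rfl k).trans (f.w_obj z).symm)) (by simp [hk])

theorem map_vert {η : 𝒴.obj} {z : 𝒳.obj} (θ : f.obj z ⟶ η) (k : 𝒳.p.obj z ⟶ 𝒴.p.obj η)
    (hk : 𝒴.p.map θ = eqToHom (f.w_obj z) ≫ k) :
    𝒴.p.map (vert θ k hk) = eqToHom ((pull_base η rfl k).trans (f.w_obj z).symm) := map_facMap _ _ _ _

theorem vert_comp {η : 𝒴.obj} {z : 𝒳.obj} (θ : f.obj z ⟶ η) (k : 𝒳.p.obj z ⟶ 𝒴.p.obj η)
    (hk : 𝒴.p.map θ = eqToHom (f.w_obj z) ≫ k) : vert θ k hk ≫ θ = pullHom η rfl k := facMap_comp _ _ _ _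

theorem nonempty_univ (hf : AlgSt.RepByAlgSpWith (AlgSp.RepWith @IsAffineHom) f) (η : 𝒴.obj) :
    Nonempty (Univ f η) := by
  haveI : f.toFunctor.Faithful := faithful_of_repByAlgSp1 (repByAlgSp1_of_with hf)
  let y := objFun η (rfl : 𝒴.p.obj η = _)
  obtain ⟨V, c₀, haff, hbij⟩ := exists_class hf y
  obtain ⟨s, ξ₀, hξ₀, φ₀, hφ₀, hc₀⟩ := fpEl_exists c₀
  have hs : fpHom c₀ = s := by rw [hc₀, fpHom_fpEl]
  rw [hs] at haff
  subst hξ₀
  haveI := isIso_of_vert φ₀ hφ₀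
  let ψ₀ : f.obj ξ₀ ⟶ η := inv φ₀ ≫ pullHom η rfl s
  have hψ₀ : 𝒴.p.map ψ₀ = eqToHom (f.w_obj ξ₀) ≫ s := by
    have h : 𝒴.p.map (inv φ₀) = eqToHom ((f.w_obj ξ₀).trans (pull_base η rfl s).symm) := by
      rw [Functor.map_inv]
      refine IsIso.inv_eq_of_hom_inv_id ?_
      rw [hφ₀, eqToHom_trans, eqToHom_refl]
    rw [Functor.map_comp, h, map_pullHom]
    simp
  -- the class of an object over `η` with its point
  have key : ∀ (z : 𝒳.obj) (θ : f.obj z ⟶ η) (k : 𝒳.p.obj z ⟶ 𝒴.p.obj η)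
      (hk : 𝒴.p.map θ = eqToHom (f.w_obj z) ≫ k) (α : z ⟶ ξ₀), f.map α ≫ ψ₀ = θ →
      clMap (𝒳.p.map α) c₀ = fpEl (y := y) k z rfl (vert θ k hk) (map_vert θ k hk) := by
    intro z θ k hk α hα
    have e : 𝒳.p.map α ≫ s = k := by
      have h := congrArg (fun m => 𝒴.p.map m) hα
      simp only [Functor.map_comp, map_w, hψ₀, hk] at h
      simp only [Category.assoc, eqToHom_trans_assoc] at h
      exact (cancel_epi _).1 (by simpa using h)
    rw [hc₀]
    refine clMap_fpEl (y := y) (𝒳.p.map α) e α ?_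
    refine hom_ext ψ₀ ?_ ?_
    · rw [Functor.map_comp, Functor.map_comp, hφ₀, map_vert, map_w, map_w]
      simp [ovHom, ov_p_map]
    · rw [Category.assoc, Category.assoc, hα, vert_comp]
      change y.map _ ≫ φ₀ ≫ inv φ₀ ≫ pullHom η rfl s = _
      rw [IsIso.hom_inv_id_assoc]
      exact objMap_comp _ _ _
  refine ⟨⟨ξ₀, ψ₀, by rw [hψ₀, Over.comp_left]; infer_instance, fun z θ => ?_⟩⟩
  let k : 𝒳.p.obj z ⟶ 𝒴.p.obj η := eqToHom (f.w_obj z).symm ≫ 𝒴.p.map θ
  have hk : 𝒴.p.map θ = eqToHom (f.w_obj z) ≫ k := by simp [k]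
  obtain ⟨g, hg⟩ := (hbij (𝒳.p.obj z)).surjective (fpEl (y := y) k z rfl (vert θ k hk) (map_vert θ k hk))
  replace hg : clMap g c₀ = _ := hg
  -- the pulled back object
  have ex : ∃ α : z ⟶ ξ₀, f.map α ≫ ψ₀ = θ := by
    let z' := pull ξ₀ rfl g
    have hz' : 𝒳.p.obj z' = 𝒳.p.obj z := pull_base _ _ _
    let θ' := f.map (pullHom ξ₀ rfl g) ≫ ψ₀
    let k' : 𝒳.p.obj z' ⟶ 𝒴.p.obj η := eqToHom (f.w_obj z').symm ≫ 𝒴.p.map θ'
    have hk' : 𝒴.p.map θ' = eqToHom (f.w_obj z') ≫ k' := by simp [k']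
    have h' := key z' θ' k' hk' _ rfl
    have hgs : g ≫ s = k := by
      have h := congrArg fpHom hg
      rw [fpHom_clMap, hs, fpHom_fpEl] at h
      exact h
    have hk'' : k' = eqToHom hz' ≫ k := by
      simp [k', θ', map_w, hψ₀, ← hgs, z']
    let φ' : y.obj (ov k) ⟶ f.obj z' := facMap θ' (pullHom η rfl k)
      (eqToHom ((pull_base η rfl k).trans (hz'.symm.trans (f.w_obj z').symm)))
      (by rw [hk', hk'']; simp)
    have hφ' : φ' ≫ θ' = pullHom η rfl k := facMap_comp _ _ _ _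
    have hc : clMap g c₀ = fpEl (y := y) k z' hz' φ' (map_facMap _ _ _ _) := by
      rw [hc₀]
      refine clMap_fpEl (y := y) g hgs (pullHom ξ₀ rfl g) ?_
      refine hom_ext ψ₀ ?_ ?_
      · rw [Functor.map_comp, Functor.map_comp, hφ₀, map_w, map_w, map_pullHom]
        simp [ovHom, ov_p_map, φ', z']
      · rw [Category.assoc, Category.assoc]
        change y.map _ ≫ φ₀ ≫ inv φ₀ ≫ pullHom η rfl s = φ' ≫ θ'
        rw [IsIso.hom_inv_id_assoc, hφ']
        exact objMap_comp _ _ _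
    obtain ⟨a, ha, ha'⟩ := fpEl_eq_iff.1 (hc.symm.trans hg)
    haveI := isIso_of_vert a ha
    haveI : IsIso φ' := isIso_of_vert φ' (map_facMap _ _ _ _)
    have h1 : f.map a ≫ θ = θ' := by
      rw [← cancel_epi φ', ← Category.assoc, ha', vert_comp, hφ']
    refine ⟨inv a ≫ pullHom ξ₀ rfl g, ?_⟩
    rw [Functor.map_comp, Category.assoc]
    change _ ≫ θ' = _
    rw [← h1, ← Category.assoc, ← Functor.map_comp, IsIso.inv_hom_id, CategoryTheory.Functor.map_id,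
      Category.id_comp]
  obtain ⟨α, hα⟩ := ex
  refine ⟨α, hα, fun β hβ => ?_⟩
  have h : 𝒳.p.map β = 𝒳.p.map α :=
    (hbij (𝒳.p.obj z)).injective ((key z θ k hk β hβ).trans (key z θ k hk α hα).symm)
  refine f.toFunctor.map_injective (hom_ext ψ₀ ?_ (hβ.trans hα.symm))
  rw [map_w, map_w, h]

end Groth.Agent.AffLift
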