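import Groth.Agent.AffLiftLib.Quot
import Groth.Agent.AffLiftLib.Ext
import Groth.Agent.BGaSLib.Functor
import Mathlib.Algebra.MvPolynomial.Division

/-!
Affine morphisms lift uniquely against the punctured stacks `Θ_R` and `ST_R`.
-/

set_option autoImplicit false
set_option backward.isDefEq.respectTransparency false
set_option backward.isDefEq.respectTransparency.types false
set_option linter.style.haveILetI false
set_option linter.unusedSectionVars false
universe u

open CategoryTheory CategoryTheory.Limits MonoidalCategory CartesianMonoidalCategory AlgebraicGeometry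

noncomputable section

namespace Groth.Agent.AffLift

variable {R : Type u} [CommRing R] {C : Type u} [CommRing C] [Algebra R C]

/-- An element as a global function on the spectrum. -/
abbrev fn (q : C) : Γ((CoactBr.sp R C).left, ⊤) := (Scheme.ΓSpecIso (CommRingCat.of C)).inv q

theorem fn_isRegular {q : C} (hq : IsRegular q) : IsRegular (fn (R := R) q) := by
  refine ⟨fun a b e => ?_, fun a b e => ?_⟩ <;>
  · apply (Scheme.ΓSpecIso (CommRingCat.of C)).commRingCatIsoToRingEquiv.injective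
    have e' := congrArg (Scheme.ΓSpecIso (CommRingCat.of C)).hom e
    simp only [map_mul, fn] at e'
    rw [show (Scheme.ΓSpecIso (CommRingCat.of C)).hom ((Scheme.ΓSpecIso (CommRingCat.of C)).inv q) = q from
      (Scheme.ΓSpecIso (CommRingCat.of C)).inv_hom_id_apply q] at e'
    first | exact hq.left e' | exact hq.right e'

theorem fn_dvd {q q' : C} (h : ∀ c, q ∣ q' * c → q ∣ c) (z : Γ((CoactBr.sp R C).left, ⊤))
    (hz : fn q ∣ fn q' * z) : fn (R := R) q ∣ z := by
  obtain ⟨c, rfl⟩ := (Scheme.ΓSpecIso (CommRingCat.of C)).commRingCatIsoToRingEquiv.symm.surjective z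
  let e := (Scheme.ΓSpecIso (CommRingCat.of C)).commRingCatIsoToRingEquiv.symm
  change e q ∣ e q' * e c at hz
  change e q ∣ e c
  obtain ⟨w, hw⟩ := hz
  obtain ⟨w, rfl⟩ := e.surjective w
  rw [← map_mul, ← map_mul] at hw
  exact map_dvd e (h c ⟨w, e.injective hw⟩)

theorem regular_pullback {X Y : Scheme.{u}} [IsAffine X] [IsAffine Y] (p : Y ⟶ X) [Flat p] {a : Γ(X, ⊤)}
    (ha : IsRegular a) : IsRegular (p.appTop a) := by
  have hp : p.appTop.hom.Flat := HasRingHomProperty.appTop (P := @Flat) p inferInstance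
  letI := p.appTop.hom.toAlgebra
  haveI : Module.Flat Γ(X, ⊤) Γ(Y, ⊤) := hp
  have h : IsSMulRegular Γ(Y, ⊤) (algebraMap Γ(X, ⊤) Γ(Y, ⊤) a) :=
    IsSMulRegular.of_flat ha.left.isSMulRegular
  have hl : IsLeftRegular (p.appTop a) := isLeftRegular_iff.mpr h
  exact ⟨hl, fun x y e => hl (by simpa [mul_comm] using e)⟩

theorem flat_gm : Flat (ThetaS.Gm R).hom :=
  (HasRingHomProperty.Spec_iff (P := @Flat)
      (φ := CommRingCat.ofHom (algebraMap R (ThetaS.Lau R)))).mpr
    (RingHom.flat_algebraMap_iff.mpr inferInstance)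

/-- The locus where an element is invertible. -/
abbrev DC (q : C) : (CoactBr.sp R C).left.Opens := (CoactBr.sp R C).left.basicOpen (fn q)

/-- Lifting against the quotient of a spectrum by the multiplicative group along the common zeros of
two elements forming a regular sequence. -/
theorem liftsUniquely_quot {S : Scheme.{u}} (h : Spec (CommRingCat.of R) ⟶ S)
    (a : AlgGrp.Action (ThetaS.Gm R) (CoactBr.sp R C)) {s t : C} (hs : IsRegular s) (ht : IsRegular t)
    (hst : ∀ c, s ∣ t * c → s ∣ c)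
    (hinv : ∀ z, (a.act.left z ∈ DC s ↔ (snd _ _ : ThetaS.Gm R ⊗ CoactBr.sp R C ⟶ _).left z ∈ DC s) ∧
      (a.act.left z ∈ DC t ↔ (snd _ _ : ThetaS.Gm R ⊗ CoactBr.sp R C ⟶ _).left z ∈ DC t))
    (Q : (ThetaS.overS h (AlgSt.QuotSt Scheme.fppfPrecoverage (ThetaS.Gm R) a)).obj → Prop)
    (hQ : ∀ A, Q A ↔ A.P.left.basicOpen (A.φ.left.appTop (fn s)) ⊔
      A.P.left.basicOpen (A.φ.left.appTop (fn t)) = ⊤)
    {𝒳 𝒴 : AlgSt.Cat S} [FibCat.IsFibGrpd 𝒳.p] [FibCat.IsFibGrpd 𝒴.p] (f : 𝒳 ⥤ᵇ 𝒴)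
    (hf : AlgSt.RepByAlgSpWith (AlgSp.RepWith @IsAffineHom) f) :
    LiftSq.LiftsUniquely
      (AlgSt.subIncl (ThetaS.overS h (AlgSt.QuotSt Scheme.fppfPrecoverage (ThetaS.Gm R) a)) Q) f := by
  haveI := DecSec.QuotSch.isFibGrpd_quot (K := Scheme.fppfPrecoverage) (G := ThetaS.Gm R) (aX := a)
  haveI := isFibGrpd_overS h (AlgSt.QuotSt Scheme.fppfPrecoverage (ThetaS.Gm R) a)
  let X := CoactBr.sp R C
  let G := ThetaS.Gm R
  haveI : IsAffine X.left := inferInstanceAs (IsAffine (Spec _))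
  haveI : Flat G.hom := flat_gm
  haveI : IsAffine G.left := inferInstanceAs (IsAffine (Spec _))
  haveI : IsAffineHom G.hom := inferInstance
  haveI hflat : Flat (snd G X).left := inferInstanceAs (Flat (pullback.snd G.hom X.hom))
  haveI : IsAffineHom (snd G X).left := inferInstanceAs (IsAffineHom (pullback.snd G.hom X.hom))
  haveI : IsAffine (G ⊗ X).left := isAffine_of_isAffineHom (snd G X).left
  let D : X.left.Opens := DC s ⊔ DC t
  obtain ⟨Cc⟩ := nonempty_chart h a D (fun z => or_congr (hinv z).1 (hinv z).2) Q (fun A => by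
      rw [hQ, ← Scheme.preimage_basicOpen_top, ← Scheme.preimage_basicOpen_top]
      exact ⟨fun e p => (e ▸ trivial : p ∈ A.φ.left ⁻¹ᵁ DC s ⊔ A.φ.left ⁻¹ᵁ DC t),
        fun e => top_le_iff.mp fun p _ => e p⟩)
    inferInstance inferInstance
    (fun W hW => ι_comp_bijective (fn_isRegular hs) (fn_isRegular ht) (fn_dvd hst))
    (fun W hW => ι_comp_injective (regular_pullback (snd G X).left (fn_isRegular hs)) (by
      rw [← Scheme.preimage_basicOpen_top]
      exact fun p hp => Or.inl hp))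
  intro sq
  exact liftsUniquely Cc (fun η => (nonempty_univ hf η).some) sq

theorem mem_DC {K : Type u} [Field K] [Algebra R K] (ψ : C →ₐ[R] K) (q : C) (z : (CoactBr.sp R K).left) :
    (CoactBr.pt ψ).left z ∈ DC q ↔ ψ q ≠ 0 := by
  have h : DC (R := R) q = PrimeSpectrum.basicOpen q := basicOpen_eq_of_affine (R := CommRingCat.of C) q
  rw [h, CoactBr.pt_left]
  change q ∉ Ideal.comap ψ.toRingHom (PrimeSpectrum.asIdeal z) ↔ _
  rw [show PrimeSpectrum.asIdeal z = ⊥ from (Ideal.eq_bot_or_top _).resolve_right z.isPrime.ne_top,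
    Ideal.mem_comap, Submodule.mem_bot]
  rfl

open ThetaS

theorem lineAct_mem_iff (ϖ : R) (z : (Gm R ⊗ Line R).left) :
    ((lineAction R).act.left z ∈ DC (Polynomial.X : Polynomial R) ↔
      (snd (Gm R) (Line R)).left z ∈ DC (Polynomial.X : Polynomial R)) ∧
    ((lineAction R).act.left z ∈ DC (Polynomial.C ϖ) ↔
      (snd (Gm R) (Line R)).left z ∈ DC (Polynomial.C ϖ)) := by
  let zK := (Gm R ⊗ Line R).left.fromSpecResidueField z
  let K : Type u := (Gm R ⊗ Line R).left.residueField z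
  obtain ⟨ρ, hρ⟩ : ∃ ρ : CommRingCat.of R ⟶ CommRingCat.of K, Spec.map ρ = zK ≫ (Gm R ⊗ Line R).hom :=
    ⟨_, Spec.map_preimage _⟩
  letI : Algebra R K := ρ.hom.toAlgebra
  let m : CoactBr.sp R K ⟶ Gm R ⊗ Line R := Over.homMk zK hρ.symm
  obtain ⟨lam, hlam⟩ := BGaSLib.exists_pt (B := Lau R) (m ≫ fst _ _)
  obtain ⟨ψ, hψ⟩ := BGaSLib.exists_pt (B := Polynomial R) (m ≫ snd _ _)
  obtain ⟨b, rfl⟩ : ∃ b, ψ = linePt b := ⟨ψ Polynomial.X, Polynomial.algHom_ext (by simp)⟩
  have e := lineAction_pt lam b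
  have hm : CartesianMonoidalCategory.lift (CoactBr.pt lam) (CoactBr.pt (linePt b)) = m := by
    rw [hlam, hψ, ← comp_lift, lift_fst_snd, Category.comp_id]
  rw [hm] at e
  let c : (CoactBr.sp R K).left := IsLocalRing.closedPoint K
  have hc : m.left c = z := (Gm R ⊗ Line R).left.fromSpecResidueField_apply z c
  have hu : lam (zPow R 1) * lam (zPow R (-1)) = 1 := by
    rw [← map_mul, zPow_mul, show (1 : ℤ) + -1 = 0 by norm_num, zPow_zero, map_one]
  have h₁ : (lineAction R).act.left z = (m ≫ (lineAction R).act).left c :=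
    congrArg (lineAction R).act.left hc.symm
  have h₂ : (snd (Gm R) (Line R)).left z = (m ≫ snd (Gm R) (Line R)).left c :=
    congrArg (snd (Gm R) (Line R)).left hc.symm
  rw [h₁, h₂, e, ← hψ, mem_DC, mem_DC, mem_DC, mem_DC]
  simp only [linePt, Polynomial.aeval_X, Polynomial.aeval_C, and_true]
  exact mul_ne_zero_iff.trans (and_iff_right (left_ne_zero_of_mul_eq_one hu))

theorem line_liftsUniquely {S : Scheme.{u}} {R : Type u} [CommRing R] [IsDomain R] {ϖ : R} (hϖ : ϖ ≠ 0)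
    (h : Spec (CommRingCat.of R) ⟶ S) {𝒳 𝒴 : AlgSt.Cat S} [FibCat.IsFibGrpd 𝒳.p] [FibCat.IsFibGrpd 𝒴.p]
    (f : 𝒳 ⥤ᵇ 𝒴) (hf : AlgSt.RepByAlgSpWith (AlgSp.RepWith @IsAffineHom) f) :
    LiftSq.LiftsUniquely (thetaIncl Scheme.fppfPrecoverage R ϖ h) f := by
  refine liftsUniquely_quot h (lineAction R) (IsRegular.of_ne_zero Polynomial.X_ne_zero)
    (IsRegular.of_ne_zero (Polynomial.C_ne_zero.mpr hϖ)) (fun c hc => ?_) (lineAct_mem_iff ϖ) _
    (fun A => Iff.rfl) f hf
  refine (Polynomial.prime_X.dvd_or_dvd hc).resolve_left fun hd => hϖ ?_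
  simpa [Polynomial.X_dvd_iff] using hd

variable {π : R}

open MvPolynomial in
theorem rel_not_dvd [IsDomain R] (hπ : π ≠ 0) (i : Fin 2) :
    ¬ (X i : MvPolynomial (Fin 2) R) ∣ X 0 * X 1 - MvPolynomial.C π := fun h => hπ (by
  have := map_dvd (MvPolynomial.constantCoeff (σ := Fin 2) (R := R)) h
  simpa using this)

open MvPolynomial in
theorem stVar_isRegular [IsDomain R] (hπ : π ≠ 0) (i : Fin 2) :
    IsRegular (Ideal.Quotient.mk (Ideal.span {(X 0 * X 1 - MvPolynomial.C π : MvPolynomial (Fin 2) R)}) (X i)) := by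
  rw [← isLeftRegular_iff_isRegular, isLeftRegular_iff_right_eq_zero_of_mul]
  intro z hz
  obtain ⟨F, rfl⟩ := Ideal.Quotient.mk_surjective z
  rw [← map_mul, Ideal.Quotient.eq_zero_iff_mem, Ideal.mem_span_singleton] at hz
  rw [Ideal.Quotient.eq_zero_iff_mem, Ideal.mem_span_singleton]
  obtain ⟨g, hg⟩ := hz
  obtain ⟨g', rfl⟩ := ((MvPolynomial.X_prime (i := i)).dvd_or_dvd ⟨F, hg.symm⟩).resolve_left (rel_not_dvd hπ i)
  exact ⟨g', mul_left_cancel₀ (X_ne_zero i) (by rw [hg]; ring)⟩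

open MvPolynomial in
theorem sFn_dvd [IsDomain R] (hπ : π ≠ 0) (z : STRing R π) (hz : sFn R π ∣ tFn R π * z) :
    sFn R π ∣ z := by
  obtain ⟨c, rfl⟩ := Ideal.Quotient.mk_surjective z
  obtain ⟨w, hw⟩ := hz
  obtain ⟨d, rfl⟩ := Ideal.Quotient.mk_surjective w
  rw [← map_mul, ← map_mul, Ideal.Quotient.eq, Ideal.mem_span_singleton] at hw
  obtain ⟨g, hg⟩ := hw
  let σ : MvPolynomial (Fin 2) R →ₐ[R] MvPolynomial (Fin 2) R := aeval ![0, X 1]
  have hσ : ∀ p, X 0 ∣ p - σ p := fun p => by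
    have e : (Ideal.Quotient.mkₐ R (Ideal.span {(X 0 : MvPolynomial (Fin 2) R)})).comp σ =
        Ideal.Quotient.mkₐ R _ := by
      ext i
      fin_cases i <;> simp [σ, Ideal.Quotient.mk_singleton_self]
    have := congrArg (fun m => m p) e
    rw [AlgHom.comp_apply, Ideal.Quotient.mkₐ_eq_mk, eq_comm, Ideal.Quotient.eq,
      Ideal.mem_span_singleton] at this
    exact this
  obtain ⟨e, he⟩ := hσ c
  have h₁ := congrArg σ hg
  have hs0 : σ (X 0) = 0 := aeval_X _ _
  have hs1 : σ (X 1) = X 1 := aeval_X _ _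
  have hsC : σ (MvPolynomial.C π) = MvPolynomial.C π := aeval_C _ _
  simp only [map_sub, map_mul, hs0, hs1, hsC, zero_mul, sub_zero, zero_sub] at h₁
  obtain ⟨g', hg'⟩ : X 1 ∣ σ g := by
    refine ((MvPolynomial.X_prime (i := (1 : Fin 2))).dvd_or_dvd
      (a := (MvPolynomial.C π : MvPolynomial (Fin 2) R)) ⟨-σ c, ?_⟩).resolve_left fun h => hπ ?_
    · linear_combination h₁
    · simpa using map_dvd (MvPolynomial.constantCoeff (σ := Fin 2) (R := R)) h
  have h₂ : σ c = -MvPolynomial.C π * g' := mul_left_cancel₀ (X_ne_zero (1 : Fin 2)) (by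
    rw [hg'] at h₁
    linear_combination h₁)
  refine ⟨Ideal.Quotient.mk _ (-(X 1) * g' + e), ?_⟩
  rw [← map_mul, Ideal.Quotient.eq, Ideal.mem_span_singleton]
  exact ⟨g', by linear_combination he + h₂⟩

theorem st_liftsUniquely {S : Scheme.{u}} [IsDomain R] (hπ : π ≠ 0) (h : Spec (CommRingCat.of R) ⟶ S)
    {𝒳 𝒴 : AlgSt.Cat S} [FibCat.IsFibGrpd 𝒳.p] [FibCat.IsFibGrpd 𝒴.p]
    (f : 𝒳 ⥤ᵇ 𝒴) (hf : AlgSt.RepByAlgSpWith (AlgSp.RepWith @IsAffineHom) f) :
    LiftSq.LiftsUniquely (stIncl Scheme.fppfPrecoverage R π h) f :=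
  liftsUniquely_quot h (stAction R π) (stVar_isRegular hπ 0) (stVar_isRegular hπ 1) (sFn_dvd hπ)
    BGaSLib.act_mem_iff _ (fun A => Iff.rfl) f hf

end Groth.Agent.AffLift
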