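import Groth.Agent.AffLiftLib.Sep

/-!
Dotted arrows against the point `1` of the quotient of the line by `G_m` are unique for
separated representable morphisms.
-/

set_option autoImplicit false
set_option backward.isDefEq.respectTransparency false
set_option backward.isDefEq.respectTransparency.types false
set_option linter.style.haveILetI false
set_option linter.unusedSectionVars false
universe u

open CategoryTheory CategoryTheory.Limits MonoidalCategory CartesianMonoidalCategory MonObj AlgebraicGeometry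

noncomputable section

namespace Groth.Agent.AffLift

open ASt DecSec.QuotSch

variable {S S' : Scheme.{u}} (h : S' ⟶ S)

/-- The projection of a torsor is an epimorphism of sheaves over the smaller base too. -/
theorem epi_yon_map_π {G X : Over S'} [GrpObj G] {aX : AlgGrp.Action G X}
    (A : AlgSt.QuotObj Scheme.fppfPrecoverage G aX) :
    Epi ((AlgSp.yon S).map ((Over.map h).map A.π)) := by
  let Sv : Sieve ((Over.map h).obj A.base) :=
    { arrows := fun V g => ∃ l : V ⟶ (Over.map h).obj A.P, l ≫ (Over.map h).map A.π = g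
      downward_closed := fun {V W g} ⟨l, hl⟩ k => ⟨k ≫ l, by rw [Category.assoc, hl]⟩ }
  have hSv : Sv ∈ AlgSp.J S ((Over.map h).obj A.base) := by
    rw [AlgSp.J_eq, GrothendieckTopology.mem_over_iff]
    obtain ⟨R, hR, hs⟩ := A.loc
    refine (Scheme.fppfTopology).superset_covering ?_ (Precoverage.generate_mem_toGrothendieck hR)
    rw [Sieve.generate_le_iff]
    intro W g hg
    obtain ⟨s, hs⟩ := hs g hg
    rw [Sieve.overEquiv_iff]
    exact ⟨Over.homMk s (by
      change s ≫ A.P.hom ≫ h = g ≫ A.base.hom ≫ h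
      rw [← Over.w A.π, Category.assoc, ← Category.assoc s]
      exact congrArg (· ≫ A.base.hom ≫ h) hs), Over.OverMorphism.ext hs⟩
  haveI : Presheaf.IsLocallySurjective (AlgSp.J S)
      ((AlgSp.yon S).map ((Over.map h).map A.π)).hom := ⟨fun {V} s => by
    obtain ⟨g⟩ := s
    refine (AlgSp.J S).superset_covering ?_ ((AlgSp.J S).pullback_stable g hSv)
    rintro W k ⟨l, hl⟩
    exact ⟨ULift.up l, congrArg ULift.up hl⟩⟩
  haveI : Sheaf.IsLocallySurjective ((AlgSp.yon S).map ((Over.map h).map A.π)) := ‹_›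
  exact Sheaf.epi_of_isLocallySurjective' _

/-- Dotted arrows are identified at the images of the left side. -/
theorem ident_obj {𝒳 𝒴 𝒜 ℬ : AlgSt.Cat S} [FibCat.IsFibGrpd 𝒳.p] [FibCat.IsFibGrpd 𝒴.p]
    {f : 𝒳 ⥤ᵇ 𝒴} {j : 𝒜 ⥤ᵇ ℬ} {sq : LiftSq.Sq j f} (d d' : sq.Lift) (a : 𝒜.obj) :
    Ident d d' (j.obj a) := by
  refine ⟨d.isoTop.hom.toNatTrans.app a ≫ d'.isoTop.inv.toNatTrans.app a, ?_⟩
  have e : d.isoBot.hom.toNatTrans.app (j.obj a) ≫ f.map (d.isoTop.hom.toNatTrans.app a) =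
      d'.isoBot.hom.toNatTrans.app (j.obj a) ≫ f.map (d'.isoTop.hom.toNatTrans.app a) :=
    (congrArg (fun m => m.toNatTrans.app a) d.w).trans (congrArg (fun m => m.toNatTrans.app a) d'.w).symm
  have gen : ∀ {E : Type _} [Category E] {F Y Y' T : E} (bi : Y ⟶ F) (bh : F ⟶ Y)
      (bh' : F ⟶ Y') (ft : Y ⟶ T) (ft' : Y' ⟶ T) (fti' : T ⟶ Y'), bi ≫ bh = 𝟙 Y → bh ≫ ft = bh' ≫ ft' →
      ft' ≫ fti' = 𝟙 Y' → ft ≫ fti' = bi ≫ bh' := by
    intro E _ F Y Y' T bi bh bh' ft ft' fti' h₁ h₂ h₃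
    rw [← Category.id_comp ft, ← h₁, Category.assoc bi, h₂, Category.assoc, Category.assoc, h₃,
      Category.comp_id]
  refine (f.toFunctor.map_comp _ _).trans ?_
  refine gen _ _ _ _ _ _ ?_ e ?_
  · exact congrArg (fun m => m.toNatTrans.app (j.obj a)) d.isoBot.inv_hom_id
  · exact (f.toFunctor.map_comp _ _).symm.trans
      ((congrArg f.map (congrArg (fun m => m.toNatTrans.app a) d'.isoTop.hom_inv_id)).trans
        (f.toFunctor.map_id _))

variable {G X : Over S'} [GrpObj G] {aX : AlgGrp.Action G X}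

local notation "𝒯" => AlgSt.QuotSt Scheme.fppfPrecoverage G aX

/-- Dotted arrows against a point whose orbit map is injective on functions are unique. -/
theorem liftsUnique_of_orbit {𝒳 𝒴 𝒜 : AlgSt.Cat S} [FibCat.IsFibGrpd 𝒳.p] [FibCat.IsFibGrpd 𝒴.p]
    {f : 𝒳 ⥤ᵇ 𝒴} (hf : AlgSt.RepByAlgSpWith AlgSp.IsSeparatedMor f) (hfa : f.toFunctor.Faithful)
    (j : 𝒜 ⥤ᵇ ThetaS.overS h 𝒯) (hX : IsAffine X.left) (hG : IsAffine G.left) (y : G ⟶ X)
    (hy : Function.Injective (lift (𝟙 G) y ≫ aX.act).left.appTop) (a : 𝒜.obj)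
    (ha : j.obj a = qObj Scheme.fppfPrecoverage G aX y) :
    LiftSq.LiftsUnique j f := by
  intro sq d d'
  refine unique_of_ident hfa d d' fun b => ?_
  let A : AlgSt.QuotObj Scheme.fppfPrecoverage G aX := b
  obtain ⟨w, hw, -⟩ := existsUnique_hom (K := Scheme.fppfPrecoverage) (aX := aX) A.φ A A.π (𝟙 _)
    (Category.id_comp _) (Category.id_comp _)
  let r : qObj Scheme.fppfPrecoverage G aX A.φ ⟶ qObj Scheme.fppfPrecoverage G aX (𝟙 X) :=
    (AlgSt.quotMap Scheme.fppfPrecoverage G aX).map ((AlgSt.ofOverCat X).map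
      (show Over.mk A.φ ⟶ Over.mk (𝟙 X) from Over.homMk A.φ (Category.comp_id _)))
  obtain ⟨o, ho⟩ : ∃ o : G ⟶ X, o = lift (𝟙 G) y ≫ aX.act := ⟨_, rfl⟩
  obtain ⟨m, hm, -⟩ := existsUnique_hom (K := Scheme.fppfPrecoverage) (aX := aX) y
    (qObj Scheme.fppfPrecoverage G aX (𝟙 X)) o (lift (𝟙 G)⁻¹ o) (lift_snd _ _) (by
      change lift (𝟙 G)⁻¹ o ≫ (G ◁ 𝟙 X) ≫ aX.act = y
      rw [MonoidalCategory.whiskerLeft_id, Category.id_comp, ho, ← GmTorsor.act_mul, inv_mul_cancel,
        GmTorsor.act_one])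
  have h₁ : Ident d d' (qObj Scheme.fppfPrecoverage G aX y) := ha ▸ ident_obj d d' a
  have h₀ : Ident d d' (qObj Scheme.fppfPrecoverage G aX (𝟙 X)) := by
    haveI : IsAffine ((ThetaS.overS h 𝒯).p.obj (qObj Scheme.fppfPrecoverage G aX (𝟙 X))).left := hX
    haveI : IsAffine ((ThetaS.overS h 𝒯).p.obj (qObj Scheme.fppfPrecoverage G aX y)).left := hG
    refine ident_of_injective hf d d' (b' := qObj Scheme.fppfPrecoverage G aX y) m ?_ h₁
    change Function.Injective m.base.left.appTop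
    rw [hm.1, ho]
    exact hy
  haveI : Epi ((AlgSp.yon S).map ((ThetaS.overS h 𝒯).p.map
      (w : qObj Scheme.fppfPrecoverage G aX A.φ ⟶ b))) := by
    change Epi ((AlgSp.yon S).map ((Over.map h).map w.base))
    rw [hw.1]
    exact epi_yon_map_π h A
  exact ident_of_epi hf d d' (b' := qObj Scheme.fppfPrecoverage G aX A.φ) w
    (ident_of_hom d d' (b := qObj Scheme.fppfPrecoverage G aX (𝟙 X)) r h₀)

end Groth.Agent.AffLift
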