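import Groth.Agent.AffLiftLib.Chart
import Groth.Agent.DecSec.QuotFib
import Groth.Agent.DecSec.QuotDesc
import Groth.Agent.GmTorsor.Main

/-!
An open invariant part of an affine scheme with an action gives a chart of the quotient stack.
-/

set_option autoImplicit false
set_option backward.isDefEq.respectTransparency false
set_option backward.isDefEq.respectTransparency.types false
set_option linter.style.haveILetI false
set_option linter.unusedSectionVars false
universe u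

open CategoryTheory CategoryTheory.Limits MonoidalCategory CartesianMonoidalCategory MonObj AlgebraicGeometry

noncomputable section

namespace Groth.Agent.AffLift

open ASt DecSec.QuotSch

variable {S S' : Scheme.{u}} (h : S' ⟶ S)

theorem isFibGrpd_overS (𝒯 : AlgSt.Cat S') [FibCat.IsFibGrpd 𝒯.p] :
    FibCat.IsFibGrpd (ThetaS.overS h 𝒯).p where
  exists_lift {x} {V} g := by
    let V' : Over S' := Over.mk (g.left ≫ (𝒯.p.obj x).hom)
    let g' : V' ⟶ 𝒯.p.obj x := Over.homMk g.left rfl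
    have e : (Over.map h).obj V' = V := by
      have hh : (g.left ≫ (𝒯.p.obj x).hom) ≫ h = V.hom := (Category.assoc _ _ _).trans (Over.w g)
      change Over.mk ((g.left ≫ (𝒯.p.obj x).hom) ≫ h) = V
      rw [hh]
      rfl
    have hg : g = eqToHom e.symm ≫ (Over.map h).map g' := by
      apply Over.OverMorphism.ext
      rw [Over.comp_left, Over.eqToHom_left]
      exact (Category.id_comp _).symm
    let y := pull (𝒳 := 𝒯) x rfl g'
    refine ⟨y, pullHom (𝒳 := 𝒯) x rfl g', ?_⟩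
    refine isHomLift_of_map _ (((congrArg (Over.map h).obj (pull_base (𝒳 := 𝒯) x rfl g'))).trans e) rfl ?_
    change (Over.map h).map (𝒯.p.map (pullHom (𝒳 := 𝒯) x rfl g')) = _
    rw [map_pullHom (𝒳 := 𝒯), hg]
    simp [eqToHom_map]
  isStronglyCartesian {y x} φ :=
    { universal_property' := fun {z} g ψ hψ => by
        have e : g ≫ (Over.map h).map (𝒯.p.map φ) = (Over.map h).map (𝒯.p.map ψ) :=
          IsHomLift.eq_of_isHomLift (ThetaS.overS h 𝒯).p (g ≫ (ThetaS.overS h 𝒯).p.map φ) ψ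
        have el : g.left ≫ (𝒯.p.map φ).left = (𝒯.p.map ψ).left := congrArg CommaMorphism.left e
        let g' : 𝒯.p.obj z ⟶ 𝒯.p.obj y := Over.homMk g.left (by
          rw [← Over.w (𝒯.p.map φ), ← Category.assoc, el, Over.w])
        obtain ⟨χ, ⟨hχ₁, hχ₂⟩, hu⟩ := existsUnique_fac (𝒳 := 𝒯) φ ψ g' (Over.OverMorphism.ext el)
        refine ⟨χ, ⟨?_, hχ₂⟩, fun χ' hχ' => hu χ' ⟨?_, hχ'.2⟩⟩
        · refine isHomLift_of_map _ rfl rfl ?_
          apply Over.OverMorphism.ext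
          change (𝒯.p.map χ).left = _
          rw [hχ₁]
          simp [g']
        · have e' : (Over.map h).map (𝒯.p.map χ') = g :=
            (@IsHomLift.eq_of_isHomLift _ _ _ _ (ThetaS.overS h 𝒯).p _ _ g χ' hχ'.1).symm
          exact Over.OverMorphism.ext (congrArg (fun m => m.left) e' : (𝒯.p.map χ').left = g.left) }

/-- Descent of maps to schemes over the smaller base along a torsor over the larger base. -/
theorem exists_desc {G X : Over S'} [GrpObj G] {aX : AlgGrp.Action G X}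
    (A : AlgSt.QuotObj Scheme.fppfPrecoverage G aX) (W : Over S) (g : (Over.map h).obj A.P ⟶ W)
    (hg : (Over.map h).map A.act.act ≫ g = (Over.map h).map (snd G A.P) ≫ g) :
    ∃ g' : (Over.map h).obj A.base ⟶ W, (Over.map h).map A.π ≫ g' = g := by
  haveI := epi_π A
  let adj := Over.mapPullbackAdj h
  obtain ⟨φ, hφ⟩ := Groth.Agent.ASp.exists_desc_of_epi _ (A.cart.map (AlgSp.yon S'))
    ((AlgSp.yon S').map (adj.homEquiv _ _ g)) (by
      rw [← Functor.map_comp, ← Functor.map_comp, ← Adjunction.homEquiv_naturality_left,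
        ← Adjunction.homEquiv_naturality_left, hg])
  haveI : (AlgSp.yon S').Full := inferInstance
  refine ⟨(adj.homEquiv _ _).symm ((AlgSp.yon S').preimage φ), ?_⟩
  rw [← Adjunction.homEquiv_naturality_left_symm]
  apply (adj.homEquiv _ _).injective
  rw [Equiv.apply_symm_apply]
  apply (AlgSp.yon S').map_injective
  rw [Functor.map_comp, Functor.map_preimage, hφ]

theorem epi_map_π {G X : Over S'} [GrpObj G] {aX : AlgGrp.Action G X}
    (A : AlgSt.QuotObj Scheme.fppfPrecoverage G aX) : Epi ((Over.map h).map A.π) := by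
  haveI := epi_π A
  haveI : Epi A.π := Functor.epi_of_epi_map (AlgSp.yon S') inferInstance
  haveI : (Over.map h).IsLeftAdjoint := (Over.mapPullbackAdj h).isLeftAdjoint
  infer_instance

variable {G X : Over S'} [GrpObj G] (aX : AlgGrp.Action G X)

local notation "𝒯" => AlgSt.QuotSt Scheme.fppfPrecoverage G aX

theorem mem_qObj (D : X.left.Opens) (hD : ∀ z, aX.act.left z ∈ D ↔ (snd G X).left z ∈ D) {T : Over S'}
    (x : T ⟶ X) (hx : ∀ t, x.left t ∈ D) (z : (G ⊗ T).left) :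
    ((qObj Scheme.fppfPrecoverage G aX x).φ).left z ∈ D := by
  change ((G ◁ x) ≫ aX.act).left z ∈ D
  rw [Over.comp_left]
  refine (hD _).mpr ?_
  have e : (G ◁ x) ≫ snd G X = snd G T ≫ x := whiskerLeft_snd _ _
  have e' : (snd G X).left ((G ◁ x).left z) = x.left ((snd G T).left z) :=
    congrArg (fun m => m.left z) e
  exact e'.symm ▸ hx _

/-- The chart of the quotient stack by its atlas. -/
theorem nonempty_chart (D : X.left.Opens) (hD : ∀ z, aX.act.left z ∈ D ↔ (snd G X).left z ∈ D)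
    (Q : (ThetaS.overS h 𝒯).obj → Prop) (hQ : ∀ A, Q A ↔ ∀ p, A.φ.left p ∈ D)
    (hX : IsAffine X.left) (hGX : IsAffine (G ⊗ X).left)
    (hext : ∀ W : Scheme.{u}, IsAffine W → Function.Bijective fun g : X.left ⟶ W => D.ι ≫ g)
    (hinj : ∀ W : Scheme.{u}, IsAffine W →
      Function.Injective fun g : (G ⊗ X).left ⟶ W => ((snd G X).left ⁻¹ᵁ D).ι ≫ g) :
    Nonempty (Chart (AlgSt.subIncl (ThetaS.overS h 𝒯) Q)) := by
  haveI := isFibGrpd_quot (K := Scheme.fppfPrecoverage) (G := G) (aX := aX)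
  haveI := isFibGrpd_overS h 𝒯
  let D₂ : (G ⊗ X).left.Opens := (snd G X).left ⁻¹ᵁ D
  let Xo : Over S' := Over.mk (D.ι ≫ X.hom)
  let Do : Over S' := Over.mk (D₂.ι ≫ (G ⊗ X).hom)
  let k₀ : Xo ⟶ X := Over.homMk D.ι rfl
  let k₂ : Do ⟶ G ⊗ X := Over.homMk D₂.ι rfl
  let q := fun {T : Over S'} (x : T ⟶ X) => qObj Scheme.fppfPrecoverage G aX x
  have hk₀ : Q (q k₀) := (hQ _).mpr fun z => mem_qObj aX D hD k₀ (fun (t : D.toScheme) => t.2) z
  have hk₂ : Q (q (k₂ ≫ snd G X)) := (hQ _).mpr fun z => mem_qObj aX D hD (k₂ ≫ snd G X) (fun t => (show D₂.toScheme from t).2) z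
  obtain ⟨m₁, hm₁, -⟩ := existsUnique_hom (K := Scheme.fppfPrecoverage) (aX := aX) (snd G X) (q (𝟙 X))
    (snd G X) (lift (toUnit _ ≫ η[G]) (snd G X)) (lift_snd _ _) (by
      change lift (toUnit _ ≫ η[G]) (snd G X) ≫ (G ◁ 𝟙 X) ≫ aX.act = snd G X
      have e : lift (toUnit (G ⊗ X) ≫ η[G]) (snd G X) = snd G X ≫ unitSec (G := G) X := by
        rw [unitSec, comp_lift, Category.comp_id, ← Category.assoc,
          toUnit_unique (snd G X ≫ toUnit X) (toUnit _)]
      rw [e, MonoidalCategory.whiskerLeft_id, Category.id_comp, Category.assoc, unitSec_act,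
        Category.comp_id])
  obtain ⟨m₂, hm₂, -⟩ := existsUnique_hom (K := Scheme.fppfPrecoverage) (aX := aX) (snd G X) (q (𝟙 X))
    aX.act (lift (fst G X)⁻¹ aX.act) (lift_snd _ _) (by
      change lift (fst G X)⁻¹ aX.act ≫ (G ◁ 𝟙 X) ≫ aX.act = snd G X
      rw [MonoidalCategory.whiskerLeft_id, Category.id_comp]
      have e1 : lift (fst G X)⁻¹ aX.act = lift (fst G X)⁻¹ (lift (fst G X) (snd G X) ≫ aX.act) := by
        rw [lift_fst_snd, Category.id_comp]
      rw [e1, ← GmTorsor.act_mul, inv_mul_cancel, GmTorsor.act_one])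
  obtain ⟨i₀, hi₀, -⟩ := existsUnique_hom (K := Scheme.fppfPrecoverage) (aX := aX) k₀ (q (𝟙 X))
    k₀ (k₀ ≫ unitSec X) (by
      change (k₀ ≫ unitSec X) ≫ snd G X = k₀
      rw [Category.assoc, unitSec_snd, Category.comp_id]) (by
      change (k₀ ≫ unitSec X) ≫ (G ◁ 𝟙 X) ≫ aX.act = k₀
      rw [MonoidalCategory.whiskerLeft_id, Category.id_comp, Category.assoc, unitSec_act, Category.comp_id])
  obtain ⟨i₂, hi₂, -⟩ := existsUnique_hom (K := Scheme.fppfPrecoverage) (aX := aX) (k₂ ≫ snd G X)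
    (q (snd G X)) k₂ (k₂ ≫ unitSec (G ⊗ X)) (by
      change (k₂ ≫ unitSec (G ⊗ X)) ≫ snd G (G ⊗ X) = k₂
      rw [Category.assoc, unitSec_snd, Category.comp_id]) (by
      change (k₂ ≫ unitSec (G ⊗ X)) ≫ (G ◁ snd G X) ≫ aX.act = k₂ ≫ snd G X
      rw [Category.assoc, unitSec_triv])
  refine ⟨{
    u0 := q (𝟙 X)
    u2 := q (snd G X)
    π₁ := m₁
    π₂ := m₂
    a0 := ⟨q k₀, hk₀⟩
    i0 := i₀
    a2 := ⟨q (k₂ ≫ snd G X), hk₂⟩
    i2 := i₂
    affine0 := hX
    affine2 := hGX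
    a0_max := ?_
    prod := ?_
    ext0_inj := ?_
    ext0_surj := ?_
    inj2 := ?_
    cover := ?_
    closed := ?_ }⟩
  · intro a φ
    let A : AlgSt.QuotObj Scheme.fppfPrecoverage G aX := a.obj
    let ψ : A ⟶ q (𝟙 X) := φ
    obtain ⟨f₀, hf₀⟩ : ∃ f₀ : A.base ⟶ X, f₀ = ψ.base := ⟨_, rfl⟩
    obtain ⟨T₀, hT₀⟩ : ∃ T₀ : A.P ⟶ G ⊗ X, T₀ = ψ.top := ⟨_, rfl⟩
    have hcart : IsPullback T₀ A.π (snd G X) f₀ := by rw [hT₀, hf₀]; exact ψ.cart
    have hwφ : T₀ ≫ (G ◁ 𝟙 X) ≫ aX.act = A.φ := by rw [hT₀]; exact ψ.wφ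
    let σ : A.base ⟶ A.P := hcart.lift (f₀ ≫ unitSec X) (𝟙 _) (by
      rw [Category.assoc, unitSec_snd, Category.comp_id, Category.id_comp])
    have hσ : σ ≫ A.φ = f₀ := by
      rw [← hwφ, ← Category.assoc, IsPullback.lift_fst, MonoidalCategory.whiskerLeft_id, Category.id_comp,
        Category.assoc, unitSec_act, Category.comp_id]
    have hrange : Set.range f₀.left ⊆ Set.range D.ι := by
      rintro _ ⟨t, rfl⟩
      rw [Scheme.Opens.range_ι, ← hσ]
      exact (hQ a.obj).mp a.property (σ.left t)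
    let g₀ : A.base ⟶ Xo := Over.homMk (IsOpenImmersion.lift D.ι f₀.left hrange) (by
      change IsOpenImmersion.lift D.ι f₀.left hrange ≫ D.ι ≫ X.hom = _
      rw [IsOpenImmersion.lift_fac_assoc, Over.w])
    have hg₀ : g₀ ≫ k₀ = f₀ := Over.OverMorphism.ext (IsOpenImmersion.lift_fac _ _ _)
    have he : g₀ ≫ i₀.base = ψ.base := by
      rw [hi₀.1]; exact hg₀.trans hf₀
    obtain ⟨g, -, hg⟩ : ∃ g : A ⟶ q k₀, g.base = g₀ ∧ g ≫ i₀ = ψ :=
      (existsUnique_fac (𝒳 := 𝒯) i₀ ψ g₀ he).exists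
    exact ⟨ObjectProperty.homMk g, hg⟩
  · intro c r₁ r₂
    let A : AlgSt.QuotObj Scheme.fppfPrecoverage G aX := c
    let ρ₁ : A ⟶ q (𝟙 X) := r₁
    let ρ₂ : A ⟶ q (𝟙 X) := r₂
    obtain ⟨x₁, hx₁⟩ : ∃ x₁ : A.base ⟶ X, x₁ = ρ₁.base := ⟨_, rfl⟩
    obtain ⟨x₂, hx₂⟩ : ∃ x₂ : A.base ⟶ X, x₂ = ρ₂.base := ⟨_, rfl⟩
    obtain ⟨T₁, hT₁⟩ : ∃ T₁ : A.P ⟶ G ⊗ X, T₁ = ρ₁.top := ⟨_, rfl⟩
    obtain ⟨T₂, hT₂⟩ : ∃ T₂ : A.P ⟶ G ⊗ X, T₂ = ρ₂.top := ⟨_, rfl⟩
    have hcart₁ : IsPullback T₁ A.π (snd G X) x₁ := by rw [hT₁, hx₁]; exact ρ₁.cart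
    have hcart₂ : IsPullback T₂ A.π (snd G X) x₂ := by rw [hT₂, hx₂]; exact ρ₂.cart
    have hwφ₁ : T₁ ≫ (G ◁ 𝟙 X) ≫ aX.act = A.φ := by rw [hT₁]; exact ρ₁.wφ
    have hwφ₂ : T₂ ≫ (G ◁ 𝟙 X) ≫ aX.act = A.φ := by rw [hT₂]; exact ρ₂.wφ
    let σ : A.base ⟶ A.P := hcart₁.lift (x₁ ≫ unitSec X) (𝟙 _) (by
      rw [Category.assoc, unitSec_snd, Category.comp_id, Category.id_comp])
    have hσ₁ : σ ≫ T₁ = x₁ ≫ unitSec X := IsPullback.lift_fst _ _ _ _
    have hσπ : σ ≫ A.π = 𝟙 _ := IsPullback.lift_snd _ _ _ _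
    have hσφ : σ ≫ A.φ = x₁ := by
      rw [← hwφ₁, ← Category.assoc, hσ₁, MonoidalCategory.whiskerLeft_id, Category.id_comp, Category.assoc,
        unitSec_act, Category.comp_id]
    obtain ⟨l, hl⟩ : ∃ l : A.base ⟶ G ⊗ X, σ ≫ T₂ = l := ⟨_, rfl⟩
    have hls : l ≫ snd G X = x₂ := by
      rw [← hl, Category.assoc, hcart₂.w, ← Category.assoc, hσπ, Category.id_comp]
    have hlx : l ≫ aX.act = x₁ := by
      rw [← hl, ← hσφ, ← hwφ₂, MonoidalCategory.whiskerLeft_id, Category.id_comp, Category.assoc]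
    let vb : A.base ⟶ G ⊗ X := lift (l ≫ fst G X)⁻¹ x₁
    have hl' : lift (l ≫ fst G X) (l ≫ snd G X) = l := by
      rw [← comp_lift, lift_fst_snd, Category.comp_id]
    have hvb : vb ≫ aX.act = x₂ := by
      rw [← hls]
      change lift (l ≫ fst G X)⁻¹ x₁ ≫ aX.act = _
      rw [← hlx]
      conv_lhs => arg 1; arg 2; rw [← hl']
      rw [← GmTorsor.act_mul, inv_mul_cancel, GmTorsor.act_one]
    obtain ⟨m, hm, -⟩ := existsUnique_hom (K := Scheme.fppfPrecoverage) (aX := aX) x₁ A (𝟙 _) σ hσπ hσφ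
    haveI : IsIso m := isIso_of_vert (𝒳 := 𝒯) m (e := rfl) (by exact hm.1)
    let w : q x₁ ⟶ q (snd G X) := (AlgSt.quotMap Scheme.fppfPrecoverage G aX).map
      ((AlgSt.ofOverCat X).map (show Over.mk x₁ ⟶ Over.mk (snd G X) from Over.homMk vb (lift_snd _ _)))
    have hwb : w.base = vb := rfl
    have hw : ∀ {B : AlgSt.QuotObj Scheme.fppfPrecoverage G aX} (n : q (snd G X) ⟶ B),
        unitSec A.base ≫ (w ≫ n).top = vb ≫ unitSec (G ⊗ X) ≫ n.top := fun n => comp_top_eval _ n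
    have e₁ : w ≫ m₁ = m ≫ ρ₁ := hom_ext (by
        change vb ≫ m₁.base = m.base ≫ ρ₁.base
        rw [hm₁.1, hm.1]
        exact ((lift_snd _ _).trans hx₁).trans (Category.id_comp _).symm) (by
        rw [hw, hm₁.2, AlgSt.QuotObj.comp_top, ← Category.assoc (unitSec A.base), hm.2, ← hT₁]
        refine Eq.trans ?_ hσ₁.symm
        rw [comp_lift, ← Category.assoc, toUnit_unique (vb ≫ toUnit _) (toUnit _),
          (show vb ≫ snd G X = x₁ from lift_snd _ _),
          unitSec, comp_lift, Category.comp_id, ← Category.assoc,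
          toUnit_unique (x₁ ≫ toUnit _) (toUnit _)])
    have e₂ : w ≫ m₂ = m ≫ ρ₂ := hom_ext (by
        change vb ≫ m₂.base = m.base ≫ ρ₂.base
        rw [hm₂.1, hm.1]
        exact (hvb.trans hx₂).trans (Category.id_comp _).symm) (by
        rw [hw, hm₂.2, AlgSt.QuotObj.comp_top, ← Category.assoc (unitSec A.base), hm.2, ← hT₂]
        refine Eq.trans ?_ hl.symm
        rw [comp_lift, GrpObj.comp_inv, lift_fst, inv_inv, hvb, ← hls]
        exact hl')
    refine ⟨(show A ⟶ q (snd G X) from inv m ≫ w), ?_, ?_⟩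
    · change (inv m ≫ w) ≫ m₁ = ρ₁
      rw [Category.assoc, e₁, IsIso.inv_hom_id_assoc]
    · change (inv m ≫ w) ≫ m₂ = ρ₂
      rw [Category.assoc, e₂, IsIso.inv_hom_id_assoc]
  · intro W hW g g' e
    refine Over.OverMorphism.ext ((hext W.left hW).injective ?_)
    have e' : (Over.map h).map i₀.base ≫ g = (Over.map h).map i₀.base ≫ g' := e
    rw [hi₀.1] at e'
    exact congrArg CommaMorphism.left e'
  · intro W hW π g hgπ
    let π' : W ⟶ (Over.map h).obj X := π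
    let g' : (Over.map h).obj Xo ⟶ W := g
    obtain ⟨g₀, hg₀⟩ := (hext W.left hW).surjective g'.left
    replace hg₀ : D.ι ≫ g₀ = g'.left := hg₀
    have hgπ' : g' ≫ π' = (Over.map h).map i₀.base := hgπ
    rw [hi₀.1] at hgπ'
    have hid : g₀ ≫ π'.left = 𝟙 _ := (hext X.left hX).injective (by
      change D.ι ≫ g₀ ≫ π'.left = D.ι ≫ 𝟙 _
      rw [reassoc_of% hg₀, Category.comp_id]
      exact congrArg CommaMorphism.left hgπ')
    refine ⟨Over.homMk g₀ ?_, ?_⟩
    · change g₀ ≫ W.hom = X.hom ≫ h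
      rw [← Over.w π', reassoc_of% hid]
      rfl
    · change (Over.map h).map i₀.base ≫ _ = g'
      rw [hi₀.1]
      exact Over.OverMorphism.ext hg₀
  · intro W hW g g' e
    refine Over.OverMorphism.ext (hinj W.left hW ?_)
    have e' : (Over.map h).map i₂.base ≫ g = (Over.map h).map i₂.base ≫ g' := e
    rw [hi₂.1] at e'
    exact congrArg CommaMorphism.left e'
  · intro b
    let A : AlgSt.QuotObj Scheme.fppfPrecoverage G aX := b
    obtain ⟨w, hw, -⟩ := existsUnique_hom (K := Scheme.fppfPrecoverage) (aX := aX) A.φ A A.π (𝟙 _)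
      (Category.id_comp _) (Category.id_comp _)
    let r : q A.φ ⟶ q (𝟙 X) := (AlgSt.quotMap Scheme.fppfPrecoverage G aX).map
      ((AlgSt.ofOverCat X).map (show Over.mk A.φ ⟶ Over.mk (𝟙 X) from Over.homMk A.φ (Category.comp_id _)))
    refine ⟨q A.φ, w, ⟨r⟩, fun W g hg => ?_, fun {T} t => ?_⟩
    · have hwb : (Over.map h).map w.base = (Over.map h).map A.π := by rw [hw.1]
      have hcond := hg ((Over.map h).obj (G ⊗ A.P)) ((Over.map h).map A.act.act)
        ((Over.map h).map (snd G A.P)) (by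
          change _ ≫ (Over.map h).map w.base = _ ≫ (Over.map h).map w.base
          rw [hwb, ← Functor.map_comp, ← Functor.map_comp, A.cart.w])
      obtain ⟨g', hg'⟩ := exists_desc h A W g hcond
      refine ⟨g', ?_⟩
      change (Over.map h).map w.base ≫ g' = g
      rw [hwb]
      exact hg'
    · let B : AlgSt.QuotObj Scheme.fppfPrecoverage G aX := pull (𝒳 := ThetaS.overS h 𝒯) b rfl t
      let β : B ⟶ A := pullHom (𝒳 := ThetaS.overS h 𝒯) b rfl t
      have hB : (Over.map h).obj B.base = T := pull_base (𝒳 := ThetaS.overS h 𝒯) b rfl t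
      have hβ : (Over.map h).map β.base = eqToHom hB ≫ t := by
        refine (map_pullHom (𝒳 := ThetaS.overS h 𝒯) b rfl t).trans ?_
        simp
      refine ⟨(Over.map h).obj B.P, (Over.map h).map B.π ≫ eqToHom hB, (Over.map h).map β.top, ?_, ?_⟩
      · haveI := epi_map_π h B
        infer_instance
      · change _ = _ ≫ (Over.map h).map w.base
        rw [hw.1, Category.assoc, ← hβ, ← Functor.map_comp, ← Functor.map_comp, β.cart.w]
  · intro a c v
    let ν : (show AlgSt.QuotObj Scheme.fppfPrecoverage G aX from c) ⟶ a.obj := v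
    have hc : Q c := (hQ c).mpr fun z => by
      have e : ν.top ≫ a.obj.φ = _ := ν.wφ
      rw [← e]
      exact (hQ a.obj).mp a.property (ν.top.left z)
    refine ⟨⟨c, hc⟩, ObjectProperty.homMk v, 𝟙 c, ?_, Category.id_comp v⟩
    haveI : IsIso (𝟙 c) := IsIso.id c
    exact Functor.map_isIso (ThetaS.overS h 𝒯).p (𝟙 c)

end Groth.Agent.AffLift
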