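import Groth.Agent.ASt.DiagConv
import Groth.Agent.AffLiftLib.Quot
import Groth.Prelude.Def_ThetaS

/-!
Two dotted arrows against a separated representable morphism: the locus where they are identified.
-/

set_option autoImplicit false
set_option backward.isDefEq.respectTransparency false
set_option backward.isDefEq.respectTransparency.types false
set_option linter.style.haveILetI false
set_option linter.unusedSectionVars false
universe u

open CategoryTheory CategoryTheory.Limits AlgebraicGeometry Opposite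

noncomputable section

namespace Groth.Agent.AffLift

open ASt

variable {S : Scheme.{u}}

/-- The section of a sheaf given by a point. -/
abbrev secHom (F : AlgSp.Sp S) {T : Over S} (c : F.obj.obj (op T)) : (AlgSp.yon S).obj T ⟶ F :=
  (AlgSp.J S).uliftYonedaEquiv.{u+1}.symm c

theorem secHom_map (F : AlgSp.Sp S) {T T' : Over S} (g : T' ⟶ T) (c : F.obj.obj (op T)) :
    (AlgSp.yon S).map g ≫ secHom F c = secHom F (F.obj.map g.op c) :=
  ((AlgSp.J S).uliftYonedaEquiv_symm_naturality_left.{u+1} g F c)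

/-- Two points of a separated space over an affine scheme agreeing after a map injective on functions
are equal. -/
theorem eq_of_separated {F : AlgSp.Sp S} {U : Over S} {π : F ⟶ (AlgSp.yon S).obj U}
    (hπ : AlgSp.IsSeparatedMor π) {T T' : Over S} [IsAffine T.left] [IsAffine T'.left] (w : T' ⟶ T)
    (hw : Function.Injective w.left.appTop) (a b : (AlgSp.yon S).obj T ⟶ F) (hab : a ≫ π = b ≫ π)
    (e : (AlgSp.yon S).map w ≫ a = (AlgSp.yon S).map w ≫ b) : a = b := by
  obtain ⟨hrep, hprop⟩ := (AlgSp.repWith_iff _ _).mp hπ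
  let t := pullback.lift a b hab
  obtain ⟨V, v, fst, hpb⟩ := hrep t
  haveI : IsClosedImmersion v.left := hprop t fst v hpb
  have ha : fst = (AlgSp.yon S).map v ≫ a := by
    have := congrArg (· ≫ pullback.fst π π) hpb.w
    simpa [t] using this
  have hb : fst = (AlgSp.yon S).map v ≫ b := by
    have := congrArg (· ≫ pullback.snd π π) hpb.w
    simpa [t] using this
  have hl : ((AlgSp.yon S).map w ≫ a) ≫ pullback.diagonal π = (AlgSp.yon S).map w ≫ t := by
    apply pullback.hom_ext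
    · simp [t]
    · simp [t, e]
  obtain ⟨l, -, hl₂⟩ := hpb.exists_lift _ _ hl
  haveI : (AlgSp.yon S).Full := inferInstance
  obtain ⟨l₀, rfl⟩ := (AlgSp.yon S).map_surjective l
  rw [← Functor.map_comp] at hl₂
  have hl₀ : l₀.left ≫ v.left = w.left := congrArg CommaMorphism.left ((AlgSp.yon S).map_injective hl₂)
  haveI : IsIso v.left := IsClosedImmersion.isIso_of_injective_of_isAffine (fun x y h => hw (by
    rw [← hl₀, Scheme.Hom.comp_appTop, CommRingCat.comp_apply, CommRingCat.comp_apply, h]))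
  haveI : IsIso ((Over.forget S).map v) := ‹IsIso v.left›
  haveI : IsIso v := isIso_of_reflects_iso v (Over.forget S)
  exact (cancel_epi ((AlgSp.yon S).map v)).mp (ha.symm.trans hb)

variable {𝒳 𝒴 𝒜 ℬ : AlgSt.Cat S}
  [h𝒳 : FibCat.IsFibGrpd 𝒳.p] [h𝒴 : FibCat.IsFibGrpd 𝒴.p]
  {f : 𝒳 ⥤ᵇ 𝒴} {j : 𝒜 ⥤ᵇ ℬ} {sq : LiftSq.Sq j f}

/-- The two dotted arrows are identified over `b`. -/
def Ident (d d' : sq.Lift) (b : ℬ.obj) : Prop :=
  ∃ θ : d.fn.obj b ⟶ d'.fn.obj b,
    f.map θ = d.isoBot.inv.toNatTrans.app b ≫ d'.isoBot.hom.toNatTrans.app b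

theorem map_ident (d d' : sq.Lift) {b : ℬ.obj} (θ : d.fn.obj b ⟶ d'.fn.obj b)
    (hθ : f.map θ = d.isoBot.inv.toNatTrans.app b ≫ d'.isoBot.hom.toNatTrans.app b) :
    𝒳.p.map θ = eqToHom ((d.fn.w_obj b).trans (d'.fn.w_obj b).symm) := by
  have := congrArg (fun m => 𝒴.p.map m) hθ
  simp only [Functor.map_comp, map_app, map_w, eqToHom_trans] at this
  rw [← cancel_mono (eqToHom (f.w_obj _).symm), ← cancel_epi (eqToHom (f.w_obj _))]
  simpa using this

/-- The point of the fibre given by a dotted arrow. -/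
def cls (d : sq.Lift) (b : ℬ.obj) :
    ClType (FibCat.fp (objFun (sq.bot.obj b) (sq.bot.w_obj b)) f) (ℬ.p.obj b) :=
  fpEl (𝟙 _) (d.fn.obj b) (d.fn.w_obj b)
    (pullHom (sq.bot.obj b) (sq.bot.w_obj b) (𝟙 _) ≫ d.isoBot.hom.toNatTrans.app b)
    (by rw [Functor.map_comp, map_pullHom, map_app]; simp)

theorem fpHom_cls (d : sq.Lift) (b : ℬ.obj) : fpHom (cls d b) = 𝟙 _ := fpHom_fpEl _ _ _ _ _

theorem ident_iff (d d' : sq.Lift) (b : ℬ.obj) : Ident d d' b ↔ cls d b = cls d' b := by
  constructor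
  · rintro ⟨θ, hθ⟩
    refine fpEl_eq_iff.2 ⟨θ, map_ident d d' θ hθ, ?_⟩
    rw [hθ, Category.assoc]
    refine congrArg (_ ≫ ·) ?_
    have h : d.isoBot.hom.toNatTrans.app b ≫ d.isoBot.inv.toNatTrans.app b = 𝟙 _ :=
      congrArg (fun m => m.toNatTrans.app b) d.isoBot.hom_inv_id
    rw [← Category.assoc, h]
    exact Category.id_comp _
  · intro h
    obtain ⟨θ, -, hθ⟩ := fpEl_eq_iff.1 h
    refine ⟨θ, ?_⟩
    haveI : IsIso (pullHom (sq.bot.obj b) (sq.bot.w_obj b) (𝟙 (ℬ.p.obj b))) :=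
      isIso_of_vert _ (e := (pull_base _ _ _).trans (sq.bot.w_obj b).symm) (by rw [map_pullHom]; simp)
    rw [Category.assoc] at hθ
    rw [← (cancel_epi _).1 hθ]
    have h : d.isoBot.inv.toNatTrans.app b ≫ d.isoBot.hom.toNatTrans.app b = 𝟙 _ :=
      congrArg (fun m => m.toNatTrans.app b) d.isoBot.inv_hom_id
    rw [← Category.assoc, h]
    exact (Category.id_comp _).symm

theorem ident_of_hom (d d' : sq.Lift) {b b' : ℬ.obj} (u : b' ⟶ b) (h : Ident d d' b) :
    Ident d d' b' := by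
  obtain ⟨θ, hθ⟩ := h
  have hm := map_ident d d' θ hθ
  let g : 𝒳.p.obj (d.fn.obj b') ⟶ 𝒳.p.obj (d'.fn.obj b') :=
    eqToHom ((d.fn.w_obj b').trans (d'.fn.w_obj b').symm)
  let θ' := facMap (d'.fn.map u) (d.fn.map u ≫ θ) g (by simp [g, map_w, hm])
  refine ⟨θ', hom_ext (f.map (d'.fn.map u)) ?_ ?_⟩
  · simp [θ', g, map_w, map_app]
  · have h₁ := d.isoBot.inv.toNatTrans.naturality u
    have h₂ := d'.isoBot.hom.toNatTrans.naturality u
    rw [← Functor.map_comp, facMap_comp, Functor.map_comp, hθ, Category.assoc]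
    refine Eq.trans ?_ (congrArg (_ ≫ ·) h₂)
    exact ((Category.assoc _ _ _).symm.trans (congrArg (· ≫ _) h₁)).trans (Category.assoc _ _ _)

theorem clMap_cls (d d' : sq.Lift) {b b' : ℬ.obj} (u : b' ⟶ b) (h : Ident d d' b') :
    clMap (ℬ.p.map u) (cls d b) = clMap (ℬ.p.map u) (cls d' b) := by
  obtain ⟨θ, hθ⟩ := h
  let η := sq.bot.obj b
  let g := ℬ.p.map u
  let y := objFun η (sq.bot.w_obj b)
  let φ : ∀ e : sq.Lift, y.obj (ov g) ⟶ f.obj (e.fn.obj b') := fun e =>
    facMap (f.map (e.fn.map u))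
      (pullHom η (sq.bot.w_obj b) g ≫ e.isoBot.hom.toNatTrans.app b)
      (eqToHom ((pull_base η (sq.bot.w_obj b) g).trans ((f.w_obj _).trans (e.fn.w_obj b')).symm))
      (by simp [g, η, map_w, map_app])
  have hφm : ∀ e, 𝒴.p.map (φ e) = eqToHom _ := fun e => map_facMap _ _ _ _
  have hφc : ∀ e, φ e ≫ f.map (e.fn.map u) =
      pullHom η (sq.bot.w_obj b) g ≫ e.isoBot.hom.toNatTrans.app b := fun e => facMap_comp _ _ _ _
  have key : ∀ e : sq.Lift, clMap g (cls e b) =
      fpEl (y := y) g (e.fn.obj b') (e.fn.w_obj b') (φ e) (hφm e) := fun e => by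
    refine clMap_fpEl (y := y) g (Category.comp_id g) (e.fn.map u) ?_
    rw [← Category.assoc, hφc]
    exact congrArg (· ≫ _) (objMap_comp _ _ _)
  rw [key, key]
  refine fpEl_eq_iff.2 ⟨θ, map_ident d d' θ hθ, hom_ext (f.map (d'.fn.map u)) ?_ ?_⟩
  · simp [hφm, map_w, map_app, hθ]
  · rw [Category.assoc, hφc, hθ, Category.assoc]
    have h₁ : d.isoBot.inv.toNatTrans.app b' ≫ sq.bot.map u =
        f.map (d.fn.map u) ≫ d.isoBot.inv.toNatTrans.app b := (d.isoBot.inv.toNatTrans.naturality u).symm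
    have h₂ : d'.isoBot.hom.toNatTrans.app b' ≫ f.map (d'.fn.map u) =
        sq.bot.map u ≫ d'.isoBot.hom.toNatTrans.app b := (d'.isoBot.hom.toNatTrans.naturality u).symm
    have h₃ : d.isoBot.hom.toNatTrans.app b ≫ d.isoBot.inv.toNatTrans.app b = 𝟙 _ :=
      congrArg (fun m => m.toNatTrans.app b) d.isoBot.hom_inv_id
    refine (congrArg (φ d ≫ d.isoBot.inv.toNatTrans.app b' ≫ ·) h₂).trans ?_
    refine (congrArg (φ d ≫ ·) ((Category.assoc _ _ _).symm.trans
      ((congrArg (· ≫ _) h₁).trans (Category.assoc _ _ _)))).trans ?_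
    refine (Category.assoc _ _ _).symm.trans ((congrArg (· ≫ _) (hφc d)).trans ?_)
    refine (Category.assoc _ _ _).trans (congrArg (_ ≫ ·) ?_)
    exact (Category.assoc _ _ _).symm.trans ((congrArg (· ≫ _) h₃).trans (Category.id_comp _))

variable (hf : AlgSt.RepByAlgSpWith AlgSp.IsSeparatedMor f)
include hf

/-- Identification is tested after a covering. -/
theorem ident_of_epi (d d' : sq.Lift) {b b' : ℬ.obj} (u : b' ⟶ b)
    [Epi ((AlgSp.yon S).map (ℬ.p.map u))] (h : Ident d d' b') : Ident d d' b := by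
  obtain ⟨F, e, he, hP⟩ := hf _ (objFun (sq.bot.obj b) (sq.bot.w_obj b))
  obtain ⟨hs, -⟩ := fibHas_of_rep (P := ⊤) e he trivial
  let G : AlgSp.Sp S := ⟨fib (objFun (sq.bot.obj b) (sq.bot.w_obj b)) f, hs⟩
  have e := clMap_cls d d' u h
  rw [ident_iff]
  apply ((AlgSp.J S).uliftYonedaEquiv.{u+1} (F := G)).symm.injective
  change secHom G (cls d b) = secHom G (cls d' b)
  rw [← cancel_epi ((AlgSp.yon S).map (ℬ.p.map u)), secHom_map, secHom_map]
  exact congrArg (secHom G) e

/-- Identification is tested after a map injective on functions. -/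
theorem ident_of_injective (d d' : sq.Lift) {b b' : ℬ.obj} (u : b' ⟶ b)
    [IsAffine (ℬ.p.obj b).left] [IsAffine (ℬ.p.obj b').left]
    (hu : Function.Injective (ℬ.p.map u).left.appTop) (h : Ident d d' b') : Ident d d' b := by
  obtain ⟨F, e, he, hP⟩ := hf _ (objFun (sq.bot.obj b) (sq.bot.w_obj b))
  haveI : (AlgSp.IsSeparatedMor : MorphismProperty (AlgSp.Sp S)).RespectsIso := inferInstance
  obtain ⟨hs, -, hsep⟩ := fibHas_of_rep e he hP
  let G : AlgSp.Sp S := ⟨fib (objFun (sq.bot.obj b) (sq.bot.w_obj b)) f, hs⟩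
  have e := clMap_cls d d' u h
  rw [ident_iff]
  apply ((AlgSp.J S).uliftYonedaEquiv.{u+1} (F := G)).symm.injective
  refine eq_of_separated hsep (ℬ.p.map u) hu (secHom G (cls d b)) (secHom G (cls d' b)) ?_ ?_
  · apply ((AlgSp.J S).uliftYonedaEquiv.{u+1}).injective
    rw [GrothendieckTopology.uliftYonedaEquiv_apply, GrothendieckTopology.uliftYonedaEquiv_apply]
    simp only [secHom]
    have h₁ : ∀ c : G.obj.obj (op (ℬ.p.obj b)),
        ((AlgSp.J S).uliftYonedaEquiv.{u+1}.symm c).hom.app (op (ℬ.p.obj b)) ⟨𝟙 _⟩ = c := fun c =>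
      (GrothendieckTopology.uliftYonedaEquiv_apply.{u+1} (AlgSp.J S) _).symm.trans (Equiv.apply_symm_apply _ c)
    change (fibπ _ f).app _ _ = (fibπ _ f).app _ _
    have h₂ : (fibπ (objFun (sq.bot.obj b) (sq.bot.w_obj b)) f).app (op (ℬ.p.obj b)) (cls d b) =
        (fibπ (objFun (sq.bot.obj b) (sq.bot.w_obj b)) f).app (op (ℬ.p.obj b)) (cls d' b) :=
      congrArg ULift.up ((fpHom_cls d b).trans (fpHom_cls d' b).symm)
    refine Eq.trans ?_ (Eq.trans h₂ ?_)
    · exact congrArg _ (h₁ (cls d b))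
    · exact congrArg _ (h₁ (cls d' b)).symm
  · rw [secHom_map, secHom_map]
    exact congrArg (secHom G) e

omit hf in
/-- Dotted arrows identified everywhere are uniquely isomorphic. -/
theorem unique_of_ident (hfa : f.toFunctor.Faithful) (d d' : sq.Lift) (h : ∀ b, Ident d d' b) :
    Nonempty (Unique (d ⟶ d')) := by
  haveI := hfa
  choose θ hθ using h
  let T : d.fn ⟶ d'.fn :=
    { toNatTrans :=
        { app := θ
          naturality := fun b b' u => f.toFunctor.map_injective (by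
            rw [Functor.map_comp, Functor.map_comp, hθ, hθ]
            have h1 := d.isoBot.inv.toNatTrans.naturality u
            have h2 := d'.isoBot.hom.toNatTrans.naturality u
            exact ((Category.assoc _ _ _).symm.trans (congrArg (· ≫ _) h1)).trans
              ((Category.assoc _ _ _).trans ((congrArg (_ ≫ ·) h2).trans (Category.assoc _ _ _).symm))) }
      isHomLift' := fun b => isHomLift_id_of_map (θ b) (d.fn.w_obj b) (map_ident d d' (θ b) (hθ b)) }
  refine ⟨{ default := ⟨T, ?_, ?_⟩, uniq := fun θ' => ?_ }⟩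
  · ext a
    refine f.toFunctor.map_injective ?_
    change f.map (θ (j.obj a) ≫ d'.isoTop.hom.toNatTrans.app a) = f.map (d.isoTop.hom.toNatTrans.app a)
    have h : d.isoBot.hom.toNatTrans.app (j.obj a) ≫ f.map (d.isoTop.hom.toNatTrans.app a) =
        d'.isoBot.hom.toNatTrans.app (j.obj a) ≫ f.map (d'.isoTop.hom.toNatTrans.app a) :=
      (congrArg (fun m => m.toNatTrans.app a) d.w).trans (congrArg (fun m => m.toNatTrans.app a) d'.w).symm
    have hi : d.isoBot.inv.toNatTrans.app (j.obj a) ≫ d.isoBot.hom.toNatTrans.app (j.obj a) = 𝟙 _ :=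
      congrArg (fun m => m.toNatTrans.app (j.obj a)) d.isoBot.inv_hom_id
    rw [Functor.map_comp, hθ, Category.assoc]
    refine (congrArg (_ ≫ ·) h.symm).trans ?_
    rw [← Category.assoc, hi]
    exact Category.id_comp _
  · ext b
    change d.isoBot.hom.toNatTrans.app b ≫ f.map (θ b) = d'.isoBot.hom.toNatTrans.app b
    have hi : d.isoBot.hom.toNatTrans.app b ≫ d.isoBot.inv.toNatTrans.app b = 𝟙 _ :=
      congrArg (fun m => m.toNatTrans.app b) d.isoBot.hom_inv_id
    rw [hθ, ← Category.assoc, hi]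
    exact Category.id_comp _
  · ext b
    refine f.toFunctor.map_injective ?_
    change f.map (θ'.hom.toNatTrans.app b) = f.map (θ b)
    have h : d.isoBot.hom.toNatTrans.app b ≫ f.map (θ'.hom.toNatTrans.app b) =
        d'.isoBot.hom.toNatTrans.app b := congrArg (fun m => m.toNatTrans.app b) θ'.w_bot
    have hi : d.isoBot.inv.toNatTrans.app b ≫ d.isoBot.hom.toNatTrans.app b = 𝟙 _ :=
      congrArg (fun m => m.toNatTrans.app b) d.isoBot.inv_hom_id
    rw [hθ, ← h, ← Category.assoc, hi]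
    exact (Category.id_comp _).symm

omit hf in
theorem ident_top (d d' : sq.Lift) (a : 𝒜.obj) : Ident d d' (j.obj a) := by
  refine ⟨d.isoTop.hom.toNatTrans.app a ≫ d'.isoTop.inv.toNatTrans.app a, ?_⟩
  have h : d.isoBot.hom.toNatTrans.app (j.obj a) ≫ f.map (d.isoTop.hom.toNatTrans.app a) =
      d'.isoBot.hom.toNatTrans.app (j.obj a) ≫ f.map (d'.isoTop.hom.toNatTrans.app a) :=
    (congrArg (fun m => m.toNatTrans.app a) d.w).trans (congrArg (fun m => m.toNatTrans.app a) d'.w).symm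
  have hi : d.isoBot.inv.toNatTrans.app (j.obj a) ≫ d.isoBot.hom.toNatTrans.app (j.obj a) = 𝟙 _ :=
    congrArg (fun m => m.toNatTrans.app (j.obj a)) d.isoBot.inv_hom_id
  have hi' : d'.isoTop.hom.toNatTrans.app a ≫ d'.isoTop.inv.toNatTrans.app a = 𝟙 _ :=
    congrArg (fun m => m.toNatTrans.app a) d'.isoTop.hom_inv_id
  rw [Functor.map_comp]
  refine (congrArg (· ≫ _) ((Category.id_comp _).symm.trans (congrArg (· ≫ _) hi.symm))).trans ?_
  refine (congrArg (· ≫ _) ((Category.assoc _ _ _).trans (congrArg (_ ≫ ·) h))).trans ?_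
  refine (Category.assoc _ _ _).trans (congrArg (_ ≫ ·) ((Category.assoc _ _ _).trans ?_))
  refine (congrArg (_ ≫ ·) ((f.toFunctor.map_comp _ _).symm.trans ((congrArg f.map hi').trans
    (f.toFunctor.map_id _)))).trans ?_
  exact Category.comp_id _

end Groth.Agent.AffLift
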